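import Mathlib
import Cfsg.Agent.KFacts.Unit.OutHom
import Cfsg.Agent.LieClassical.HermBasic
import Cfsg.Agent.OddHalf.D4.Free.AutFacts

-- merged: Cfsg.Agent.OddHalf.D4.UnB.Defs
section

/-!
# ODD, D4, (1B): 2-groups of automorphisms of `PSU n F q`, definitions

`Wb q n v`: `v 0, …, v (n - 1)` is a Witt basis: `(v i, v j) = 1` if `i + j = n - 1`, `= 0` otherwise.
`Vf q n v a`: the span of `v 0, …, v (a - 1)`, given as `⟨v i | i < n - a⟩^⊥`.
`Ug q n v j`: the elements `g` of `SU n F q` with `(g - 1) V_a ≤ V_(a - j)` for all `a`.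
`Uni q n v A ρ`: the semi-isometry `sg A ρ` fixes `v k` modulo `V_k` for all `k < n`.
-/

set_option autoImplicit false

namespace Cfsg.Agent.OddHalf.D4.UnB

open Cfsg Cfsg.Agent.LieClassical.HermBasic Cfsg.Agent.LieClassical.HermSiegel
  Cfsg.Agent.LieClassical.HermGen Cfsg.Agent.LieClassical.SUBasic
  Cfsg.Agent.ClassicalGeometry.PSUAutBasic Cfsg.Agent.ClassicalGeometry.PSUAutUnip
  Cfsg.Agent.KFacts.Unit

open Cfsg.Agent.ClassicalGeometry.PSUAutCount (gm semiConj toAut)

variable {F : Type*} [Field F] {q n : ℕ}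

/-- A Witt basis. -/
structure Wb (q : ℕ) {n : ℕ} (v : ℕ → Fin n → F) : Prop where
  gram : ∀ i < n, ∀ j < n, hermForm n F q (v i) (v j) = if i + j + 1 = n then 1 else 0

/-- `⟨v i | i < a⟩`, as the space orthogonal to the `v i`, `i < n - a`. -/
def Vf (q : ℕ) (v : ℕ → Fin n → F) (a : ℕ) : Submodule F (Fin n → F) where
  carrier := {x | ∀ i, i + a < n → hermForm n F q x (v i) = 0}
  zero_mem' := fun _ _ => herm_zero_left _
  add_mem' := by
    intro x y hx hy i hi
    rw [herm_add_left, hx i hi, hy i hi, add_zero]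
  smul_mem' := by
    intro c x hx i hi
    rw [herm_smul_left, hx i hi, mul_zero]

theorem mem_Vf {v : ℕ → Fin n → F} {a : ℕ} {x : Fin n → F} :
    x ∈ Vf q v a ↔ ∀ i, i + a < n → hermForm n F q x (v i) = 0 := Iff.rfl

theorem Vf_mono {v : ℕ → Fin n → F} {a b : ℕ} (h : a ≤ b) : Vf q v a ≤ Vf q v b :=
  fun _ hx i hi => hx i (by omega)

theorem Vf_top {v : ℕ → Fin n → F} {a : ℕ} (h : n ≤ a) (x : Fin n → F) : x ∈ Vf q v a :=
  fun _ hi => by omega

theorem Wb.mem {v : ℕ → Fin n → F} (h : Wb q v) {k a : ℕ} (hk : k < a) (hn : k < n) : v k ∈ Vf q v a := by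
  intro i hi
  rw [h.gram k hn i (by omega), if_neg (by omega)]

/-- `sg A ρ` fixes `v k` modulo `V_k` -/
def Uni (q : ℕ) (v : ℕ → Fin n → F) (A : GU n F q) (ρ : F ≃+* F) : Prop :=
  ∀ k < n, sg A ρ (v k) - v k ∈ Vf q v k

end Cfsg.Agent.OddHalf.D4.UnB

end

-- merged: Cfsg.Agent.OddHalf.D4.UnB.Level
section

/-!
# ODD, D4, (1B): the unitriangular group of a Witt basis

`Ug q v j`: the elements `g` of `SU n F q` with `(g - 1) V_a ≤ V_(a - j)` for all `a`.
`Rg q v t`: the elements of `Ug q v (t + 1)` whose leading coefficients `(g v_k - v_k, v_i)`, `k + i = n + t`, are in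
`F_q`.
`Ln`: the lines `{siegel (v i) ((t * c) • v k) μ | t ∈ F_q}` (`μ = 0` unless `v k` is anisotropic).
-/

set_option autoImplicit false

namespace Cfsg.Agent.OddHalf.D4.UnB

open Cfsg Cfsg.Agent.LieClassical.HermBasic Cfsg.Agent.LieClassical.HermSiegel
  Cfsg.Agent.LieClassical.HermGen Cfsg.Agent.LieClassical.SUBasic
  Cfsg.Agent.ClassicalGeometry.PSUAutBasic Cfsg.Agent.ClassicalGeometry.PSUAutUnip
  Cfsg.Agent.KFacts.Unit

variable {F : Type*} [Field F] [Fintype F] {q n : ℕ} {v : ℕ → Fin n → F}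

/-! ### Witt bases -/

omit [Fintype F] in
theorem Wb.linInd (W : Wb q v) : LinearIndependent F (fun i : Fin n => v i) := by
  rw [Fintype.linearIndependent_iff]
  intro g hg i
  have h1 := congrArg (fun x => hermForm n F q x (v (n - 1 - i))) hg
  simp only [herm_zero_left, herm_sum_left, herm_smul_left] at h1
  rw [Finset.sum_eq_single i] at h1
  · rwa [W.gram i i.2 _ (by omega), if_pos (by omega), mul_one] at h1
  · intro j _ hj
    have h2 : (j : ℕ) ≠ i := fun h => hj (Fin.ext h)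
    rw [W.gram j j.2 _ (by omega), if_neg (by omega), mul_zero]
  · intro hi
    exact absurd (Finset.mem_univ i) hi

theorem Wb.eq_zero (hF : Fintype.card F = q ^ 2) (W : Wb q v) {x : Fin n → F}
    (hx : ∀ i < n, hermForm n F q x (v i) = 0) : x = 0 := by
  apply herm_nondeg hF
  intro y
  have h1 : Submodule.span F (Set.range fun i : Fin n => v i) = ⊤ :=
    W.linInd.span_eq_top_of_card_eq_finrank' (by rw [Fintype.card_fin, Module.finrank_fin_fun])
  have hy : y ∈ Submodule.span F (Set.range fun i : Fin n => v i) := h1 ▸ Submodule.mem_top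
  induction hy using Submodule.span_induction with
  | mem y hy =>
    obtain ⟨i, rfl⟩ := hy
    exact hx i i.2
  | zero => exact herm_zero_right hF _
  | add y z _ _ hy hz => rw [herm_add_right hF, hy, hz, add_zero]
  | smul c y _ hy => rw [herm_smul_right, hy, mul_zero]

theorem Vf_zero (hF : Fintype.card F = q ^ 2) (W : Wb q v) {x : Fin n → F} (hx : x ∈ Vf q v 0) : x = 0 :=
  W.eq_zero hF fun i hi => hx i (by omega)

theorem Wb.expand (hF : Fintype.card F = q ^ 2) (W : Wb q v) (x : Fin n → F) :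
    x = ∑ i ∈ Finset.range n, hermForm n F q x (v (n - 1 - i)) • v i := by
  rw [← sub_eq_zero]
  apply W.eq_zero hF
  intro j hj
  rw [herm_sub_left, herm_sum_left, Finset.sum_eq_single (n - 1 - j)]
  · rw [herm_smul_left, W.gram _ (by omega) j hj, if_pos (by omega), mul_one,
      show n - 1 - (n - 1 - j) = j by omega, sub_self]
  · intro i hi hij
    have hi := Finset.mem_range.1 hi
    rw [herm_smul_left, W.gram i hi j hj, if_neg (by omega), mul_zero]
  · intro h
    exact absurd (Finset.mem_range.2 (by omega)) h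

/-- induction over `V_a` -/
theorem Wb.induct (hF : Fintype.card F = q ^ 2) (W : Wb q v) {a : ℕ} {p : (Fin n → F) → Prop} (h0 : p 0)
    (hadd : ∀ x y, p x → p y → p (x + y)) (hsmul : ∀ (c : F) x, p x → p (c • x))
    (hv : ∀ k < n, k < a → p (v k)) {x : Fin n → F} (hx : x ∈ Vf q v a) : p x := by
  rw [W.expand hF x]
  refine Finset.sum_induction _ p hadd h0 fun i hi => ?_
  have hi := Finset.mem_range.1 hi
  by_cases hia : i < a
  · exact hsmul _ _ (hv i hi hia)
  · rw [hx (n - 1 - i) (by omega), zero_smul]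
    exact h0

/-! ### Levels -/

omit [Fintype F] in
theorem act_injective (g : SU n F q) : Function.Injective (act g) := fun x y h => by
  have := congrArg (act g⁻¹) h
  rwa [act_inv_act, act_inv_act] at this

/-- The elements `g` with `(g - 1) V_a ≤ V_(a - j)` for all `a`. -/
def Ug (q : ℕ) (v : ℕ → Fin n → F) (j : ℕ) : Subgroup (SU n F q) where
  carrier := {g | ∀ a, ∀ x ∈ Vf q v a, act g x - x ∈ Vf q v (a - j)}
  one_mem' := fun a x _ => by rw [act_one, sub_self]; exact zero_mem _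
  mul_mem' := by
    intro g h hg hh a x hx
    have h1 := hh a x hx
    have h2 := Vf_mono (v := v) (q := q) (show a - j - j ≤ a - j by omega) (hg _ _ h1)
    have h3 := hg a x hx
    have e1 : act (g * h) x - x = (act g (act h x - x) - (act h x - x)) + (act h x - x) + (act g x - x) := by
      rw [act_mul, act_sub]; abel
    rw [e1]
    exact add_mem (add_mem h2 h1) h3
  inv_mem' := by
    intro g hg a y hy
    have h1 : ∀ x ∈ Vf q v a, act g x ∈ Vf q v a := by
      intro x hx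
      have h2 := add_mem (Vf_mono (v := v) (q := q) (show a - j ≤ a by omega) (hg a x hx)) hx
      rwa [sub_add_cancel] at h2
    have h2 : Function.Surjective (fun x : ↥(Vf q v a) => (⟨act g x, h1 x x.2⟩ : ↥(Vf q v a))) := by
      apply Finite.surjective_of_injective
      intro x x' h
      exact Subtype.ext (act_injective g (congrArg Subtype.val h))
    obtain ⟨x, hx⟩ := h2 ⟨y, hy⟩
    have h3 : act g x = y := congrArg Subtype.val hx
    rw [← h3, act_inv_act, ← neg_sub]
    exact neg_mem (hg a x x.2)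

theorem mem_Ug {j : ℕ} {g : SU n F q} : g ∈ Ug q v j ↔ ∀ a, ∀ x ∈ Vf q v a, act g x - x ∈ Vf q v (a - j) := Iff.rfl

theorem Ug_anti {i j : ℕ} (h : i ≤ j) : Ug q v j ≤ Ug q v i :=
  fun _ hg a x hx => Vf_mono (by omega) (hg a x hx)

theorem mem_Ug_of (hF : Fintype.card F = q ^ 2) (W : Wb q v) {j : ℕ} {g : SU n F q}
    (h : ∀ k < n, act g (v k) - v k ∈ Vf q v (k + 1 - j)) : g ∈ Ug q v j := by
  intro a x hx
  refine W.induct hF (p := fun x => act g x - x ∈ Vf q v (a - j)) ?_ ?_ ?_ ?_ hx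
  · rw [act_zero, sub_self]; exact zero_mem _
  · intro x y hx hy
    have e1 : act g (x + y) - (x + y) = (act g x - x) + (act g y - y) := by rw [act_add]; abel
    rw [e1]
    exact add_mem hx hy
  · intro c x hx
    rw [act_smul, ← smul_sub]
    exact Submodule.smul_mem _ _ hx
  · intro k hk hka
    exact Vf_mono (by omega) (h k hk)

/-- the coefficients of `g - 1` -/
theorem Ug_coeff {j : ℕ} {g : SU n F q} (hg : g ∈ Ug q v j) {a b : ℕ} {x : Fin n → F} (hx : x ∈ Vf q v a)
    (hb : b + a < n + j) (hbn : b < n) : hermForm n F q (act g x - x) (v b) = 0 :=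
  hg a x hx b (by omega)

theorem Ug_top (hF : Fintype.card F = q ^ 2) (W : Wb q v) {g : SU n F q} (hg : g ∈ Ug q v n) : g = 1 := by
  apply ext_act
  intro x
  have h1 := hg n x (Vf_top le_rfl x)
  rw [Nat.sub_self] at h1
  rw [act_one]
  exact sub_eq_zero.1 (Vf_zero hF W h1)

/-- squares -/
theorem Ug_sq [CharP F 2] {j : ℕ} {g : SU n F q} (hg : g ∈ Ug q v j) : g * g ∈ Ug q v (j + j) := by
  intro a x hx
  have h1 := hg _ _ (hg a x hx)
  have h2 : ∀ y : Fin n → F, y + y = 0 := fun y => by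
    funext k
    exact CharTwo.add_self_eq_zero _
  have e1 : act (g * g) x - x = (act g (act g x - x) - (act g x - x)) + ((act g x - x) + (act g x - x)) := by
    rw [act_mul, act_sub]; abel
  rw [e1, h2, add_zero, show a - (j + j) = a - j - j by omega]
  exact h1

theorem isPGroup_Ug [CharP F 2] (hF : Fintype.card F = q ^ 2) (W : Wb q v) : IsPGroup 2 ↥(Ug q v 1) := by
  rintro ⟨g, hg⟩
  have h1 : ∀ k : ℕ, g ^ 2 ^ k ∈ Ug q v (2 ^ k) := by
    intro k
    induction k with
    | zero => simpa using hg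
    | succ k ih =>
      have h2 := Ug_sq ih
      rwa [← pow_add, show 2 ^ k + 2 ^ k = 2 ^ (k + 1) by rw [pow_succ]; ring] at h2
  refine ⟨n, Subtype.ext (Ug_top hF W (Ug_anti ?_ (h1 n)))⟩
  exact Nat.lt_two_pow_self.le

/-- `V_a` is invariant under `Ug` -/
theorem Ug_inv {j a : ℕ} {g : SU n F q} (hg : g ∈ Ug q v j) {x : Fin n → F} (hx : x ∈ Vf q v a) :
    act g x ∈ Vf q v a := by
  have h2 := add_mem (Vf_mono (v := v) (q := q) (show a - j ≤ a by omega) (hg a x hx)) hx
  rwa [sub_add_cancel] at h2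

/-- leading coefficients are additive -/
theorem lead_mul {t : ℕ} {g h : SU n F q} (hg : g ∈ Ug q v (t + 1)) (hh : h ∈ Ug q v (t + 1)) {a b : ℕ}
    {x : Fin n → F} (hx : x ∈ Vf q v a) (hb : b + a ≤ n + t + 1) (hbn : b < n) :
    hermForm n F q (act (g * h) x - x) (v b) =
      hermForm n F q (act g x - x) (v b) + hermForm n F q (act h x - x) (v b) := by
  have e1 : act (g * h) x - x = (act g (act h x - x) - (act h x - x)) + (act h x - x) + (act g x - x) := by
    rw [act_mul, act_sub]; abel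
  rw [e1, herm_add_left, herm_add_left, Ug_coeff hg (hh a x hx) (by omega) hbn]
  ring

/-- leading coefficient of the inverse -/
theorem lead_inv {t : ℕ} {g : SU n F q} (hg : g ∈ Ug q v (t + 1)) {a b : ℕ}
    {x : Fin n → F} (hx : x ∈ Vf q v a) (hb : b + a ≤ n + t + 1) (hbn : b < n) :
    hermForm n F q (act g⁻¹ x - x) (v b) = -hermForm n F q (act g x - x) (v b) := by
  have h1 := lead_mul hg (inv_mem hg) hx hb hbn
  rw [mul_inv_cancel, act_one, sub_self, herm_zero_left] at h1
  linear_combination -h1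

/-- The elements of level `t + 1` with leading coefficients in `F_q`. -/
def Rg (hF : Fintype.card F = q ^ 2) (W : Wb q v) (t : ℕ) : Subgroup (SU n F q) where
  carrier := {g | g ∈ Ug q v (t + 1) ∧ ∀ k < n, ∀ i < n, k + i = n + t →
    hermForm n F q (act g (v k) - v k) (v i) ^ q = hermForm n F q (act g (v k) - v k) (v i)}
  one_mem' := ⟨one_mem _, fun k _ i _ _ => by rw [act_one, sub_self, herm_zero_left, zero_pow_q hF]⟩
  mul_mem' := by
    rintro g h ⟨hg, hg'⟩ ⟨hh, hh'⟩
    refine ⟨mul_mem hg hh, fun k hk i hi hki => ?_⟩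
    rw [lead_mul hg hh (W.mem (Nat.lt_succ_self k) hk) (by omega) hi, add_pow_q hF, hg' k hk i hi hki,
      hh' k hk i hi hki]
  inv_mem' := by
    rintro g ⟨hg, hg'⟩
    refine ⟨inv_mem hg, fun k hk i hi hki => ?_⟩
    rw [lead_inv hg (W.mem (Nat.lt_succ_self k) hk) (by omega) hi, neg_pow_q hF, hg' k hk i hi hki]

theorem mem_Rg {hF : Fintype.card F = q ^ 2} {W : Wb q v} {t : ℕ} {g : SU n F q} :
    g ∈ Rg hF W t ↔ g ∈ Ug q v (t + 1) ∧ ∀ k < n, ∀ i < n, k + i = n + t →
      hermForm n F q (act g (v k) - v k) (v i) ^ q = hermForm n F q (act g (v k) - v k) (v i) := Iff.rfl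

theorem Rg_le {hF : Fintype.card F = q ^ 2} {W : Wb q v} {t : ℕ} : Rg hF W t ≤ Ug q v (t + 1) := fun _ h => h.1

theorem Ug_le_Rg {hF : Fintype.card F = q ^ 2} {W : Wb q v} {t : ℕ} : Ug q v (t + 2) ≤ Rg hF W t := by
  intro g hg
  refine ⟨Ug_anti (by omega) hg, fun k hk i hi hki => ?_⟩
  rw [Ug_coeff hg (W.mem (Nat.lt_succ_self k) hk) (by omega) hi, zero_pow_q hF]

/-! ### Lines -/

theorem isSiegel_line (_hF : Fintype.card F = q ^ 2) (W : Wb q v) {i k : ℕ} (hik : i < k ∧ i + k + 1 < n) {c μ : F}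
    (h : μ + μ ^ q + (if 2 * k + 1 = n then c * c ^ q else 0) = 0) : IsSiegel q (v i) (c • v k) μ := by
  refine ⟨by rw [W.gram i (by omega) i (by omega), if_neg (by omega)], ?_, ?_⟩
  · rw [herm_smul_left, W.gram k (by omega) i (by omega), if_neg (by omega), mul_zero]
  · rw [herm_smul_left, herm_smul_right, W.gram k (by omega) k (by omega)]
    by_cases hk : 2 * k + 1 = n
    · rw [if_pos hk] at h
      rw [if_pos (by omega), mul_one]
      exact h
    · rw [if_neg hk] at h
      rw [if_neg (by omega), mul_zero, mul_zero]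
      exact h

/-- **The lines.** -/
def Ln (hF : Fintype.card F = q ^ 2) (W : Wb q v) {i k : ℕ} (hik : i < k ∧ i + k + 1 < n) (c : F) :
    Subgroup (SU n F q) where
  carrier := {g | ∃ (t μ : F) (hs : IsSiegel q (v i) ((t * c) • v k) μ), t ^ q = t ∧ (2 * k + 1 ≠ n → μ = 0) ∧
    siegel hF (v i) ((t * c) • v k) μ hs = g}
  one_mem' := by
    have h0 : IsSiegel q (v i) (((0 : F) * c) • v k) 0 := by
      rw [zero_mul]
      exact isSiegel_line hF W hik (by rw [zero_pow_q hF, zero_mul, ite_self]; ring)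
    refine ⟨0, 0, h0, zero_pow_q hF, fun _ => rfl, ?_⟩
    apply ext_act
    intro x
    rw [act_siegel, act_one, zero_mul, zero_smul, herm_zero_right hF]
    simp
  mul_mem' := by
    rintro _ _ ⟨t, μ, hs, ht, hμ, rfl⟩ ⟨t', μ', hs', ht', hμ', rfl⟩
    have h1 := hs.mul hF hs'
    have e1 : (t * c) • v k + (t' * c) • v k = ((t + t') * c) • v k := by rw [← add_smul]; congr 1; ring
    have h2 : IsSiegel q (v i) (((t + t') * c) • v k) (μ + μ' - hermForm n F q ((t' * c) • v k) ((t * c) • v k)) := by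
      rw [← e1]; exact h1
    refine ⟨t + t', _, h2, by rw [add_pow_q hF, ht, ht'], fun hk => ?_, ?_⟩
    · rw [hμ hk, hμ' hk, herm_smul_left, herm_smul_right, W.gram k (by omega) k (by omega), if_neg (by omega)]
      ring
    · rw [siegel_mul]
      exact siegel_congr hF _ _ rfl e1.symm rfl
  inv_mem' := by
    rintro _ ⟨t, μ, hs, ht, hμ, rfl⟩
    have h1 := hs.inv hF
    have e1 : -((t * c) • v k) = ((-t) * c) • v k := by rw [neg_mul, neg_smul]
    have h2 : IsSiegel q (v i) (((-t) * c) • v k) (μ ^ q) := by rw [← e1]; exact h1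
    refine ⟨-t, _, h2, by rw [neg_pow_q hF, ht], fun hk => by rw [hμ hk, zero_pow_q hF], ?_⟩
    rw [siegel_inv]
    exact siegel_congr hF _ _ rfl e1.symm rfl

theorem mem_Ln {hF : Fintype.card F = q ^ 2} {W : Wb q v} {i k : ℕ} {hik : i < k ∧ i + k + 1 < n} {c : F}
    {g : SU n F q} : g ∈ Ln hF W hik c ↔ ∃ (t μ : F) (hs : IsSiegel q (v i) ((t * c) • v k) μ), t ^ q = t ∧
      (2 * k + 1 ≠ n → μ = 0) ∧ siegel hF (v i) ((t * c) • v k) μ hs = g := Iff.rfl

omit [Fintype F] in
theorem Wb.iso (W : Wb q v) {i : ℕ} (hi : 2 * i + 1 < n) : hermForm n F q (v i) (v i) = 0 := by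
  rw [W.gram i (by omega) i (by omega), if_neg (by omega)]

end Cfsg.Agent.OddHalf.D4.UnB

end

-- merged: Cfsg.Agent.OddHalf.D4.UnB.FlagAbs
section

/-!
# ODD, D4, (1B): 2-groups of semilinear isometries of a hermitian space in characteristic 2

`flag_abs`: a finite 2-group of semilinear isometries of a nondegenerate hermitian space over a finite field of
characteristic 2 has a Witt basis `v 0, …, v (n - 1)` with `σ (v k) - v k ∈ ⟨v i | i < k⟩` for all `σ` in the group.
-/

set_option autoImplicit false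

namespace Cfsg.Agent.OddHalf.D4.UnB

open Cfsg.Agent.LieClassical.HermBasic

universe u

/-- a nondegenerate hermitian space -/
structure HS {F : Type*} [Field F] (q : ℕ) {V : Type*} [AddCommGroup V] [Module F V] (h : V → V → F) : Prop where
  add : ∀ x y z, h (x + y) z = h x z + h y z
  smul : ∀ (c : F) x y, h (c • x) y = c * h x y
  swap : ∀ x y, h y x = h x y ^ q
  nondeg : ∀ x, (∀ y, h x y = 0) → x = 0

/-- an action by semilinear isometries -/
structure Rep {F : Type*} [Field F] {V : Type*} [AddCommGroup V] [Module F V] (h : V → V → F) {P : Type*} [Group P]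
    (ρ : P →* (F ≃+* F)) (σ : P → V → V) : Prop where
  one : ∀ x, σ 1 x = x
  mul : ∀ a b x, σ (a * b) x = σ a (σ b x)
  add : ∀ a x y, σ a (x + y) = σ a x + σ a y
  smul : ∀ a (c : F) x, σ a (c • x) = ρ a c • σ a x
  herm : ∀ a x y, h (σ a x) (σ a y) = ρ a (h x y)

/-- a 2-group acting on a finite set with a fixed point free involution has an even number of fixed points -/
theorem exists_fix {P α : Type*} [Group P] [MulAction P α] [Finite α] (hP : IsPGroup 2 P) (φ : α → α)
    (h1 : ∀ x, φ (φ x) = x) (h2 : ∀ x, φ x ≠ x) {a : α} (ha : ∀ p : P, p • a = a) :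
    ∃ b, b ≠ a ∧ ∀ p : P, p • b = b := by
  classical
  have : Fact (Nat.Prime 2) := ⟨Nat.prime_two⟩
  have := Fintype.ofFinite α
  have h3 : (2 : ℕ) ∣ Nat.card α := by
    have hff : ∀ f : Function.End α, (∀ x, f (f x) = x) → f ^ 2 ^ 1 = 1 := by
      intro f hf
      rw [pow_one, pow_two]
      funext x
      exact hf x
    have h4 := Equiv.Perm.card_fixedPoints_modEq (α := α) (f := (φ : Function.End α)) (p := 2) (n := 1) (hff φ h1)
    have h5 : IsEmpty (Function.fixedPoints φ) := ⟨fun x => h2 _ x.2⟩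
    rw [Nat.card_eq_fintype_card]
    have h6 : Fintype.card (Function.fixedPoints φ) = 0 := Fintype.card_eq_zero
    apply (Nat.modEq_zero_iff_dvd).1
    refine h4.trans ?_
    rw [← h6]
  obtain ⟨b, hb, hab⟩ := hP.exists_fixed_point_of_prime_dvd_card_of_fixed_point α h3
    (a := a) (MulAction.mem_fixedPoints.2 ha)
  exact ⟨b, fun h => hab h.symm, MulAction.mem_fixedPoints.1 hb⟩

section

variable {F : Type*} [Field F] [Fintype F] {q : ℕ} {V : Type u} [AddCommGroup V] [Module F V]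
  {h : V → V → F} {P : Type*} [Group P] {ρ : P →* (F ≃+* F)} {σ : P → V → V}

omit [Fintype F] in
theorem HS.zero_left (H : HS q h) (y : V) : h 0 y = 0 := by
  have := H.smul 0 0 y
  rwa [zero_smul, zero_mul] at this

theorem HS.zero_right (hF : Fintype.card F = q ^ 2) (H : HS q h) (x : V) : h x 0 = 0 := by
  rw [H.swap 0 x, H.zero_left, zero_pow_q hF]

theorem HS.add_right (hF : Fintype.card F = q ^ 2) (H : HS q h) (x y z : V) : h x (y + z) = h x y + h x z := by
  rw [H.swap _ x, H.add, add_pow_q hF, ← H.swap, ← H.swap]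

theorem HS.smul_right (_hF : Fintype.card F = q ^ 2) (H : HS q h) (c : F) (x y : V) :
    h x (c • y) = c ^ q * h x y := by
  rw [H.swap _ x, H.smul, mul_pow, ← H.swap]

omit [Fintype F] in
theorem HS.sub (H : HS q h) (x y z : V) : h (x - y) z = h x z - h y z := by
  have := H.add (x - y) y z
  rw [sub_add_cancel] at this
  rw [this, add_sub_cancel_right]

omit [Fintype F] in
theorem Rep.zero (R : Rep h ρ σ) (a : P) : σ a 0 = 0 := by
  have := R.smul a 0 0
  rwa [zero_smul, map_zero, zero_smul] at this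

omit [Fintype F] in
theorem Rep.sub (R : Rep h ρ σ) (a : P) (x y : V) : σ a (x - y) = σ a x - σ a y := by
  have := R.add a (x - y) y
  rw [sub_add_cancel] at this
  rw [this, add_sub_cancel_right]

/-- the action on an invariant set -/
@[reducible] def Rep.act (R : Rep h ρ σ) (I : V → Prop) (hI : ∀ a x, I x → I (σ a x)) : MulAction P {x // I x} where
  smul a x := ⟨σ a x, hI a x x.2⟩
  one_smul x := Subtype.ext (R.one x)
  mul_smul a b x := Subtype.ext (R.mul a b x)

variable [Finite V] [CharP F 2]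

omit [Fintype F] [CharP F 2] in
/-- fixed vectors -/
theorem Rep.exists_fix (R : Rep h ρ σ) (hP : IsPGroup 2 P) (I : V → Prop) (hI : ∀ a x, I x → I (σ a x)) (hI0 : I 0)
    (φ : V → V) (hφ : ∀ x, I x → I (φ x)) (h1 : ∀ x, I x → φ (φ x) = x) (h2 : ∀ x, I x → φ x ≠ x) :
    ∃ x, x ≠ 0 ∧ I x ∧ ∀ a, σ a x = x := by
  let _ := R.act I hI
  obtain ⟨b, hb, hb'⟩ := UnB.exists_fix (P := P) (α := {x // I x}) hP (fun x => ⟨φ x, hφ x x.2⟩)
    (fun x => Subtype.ext (h1 x x.2)) (fun x hx => h2 x x.2 (congrArg Subtype.val hx)) (a := ⟨0, hI0⟩)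
    (fun p => Subtype.ext (R.zero p))
  exact ⟨b, fun h0 => hb (Subtype.ext h0), b.2, fun a => congrArg Subtype.val (hb' a)⟩

omit [Fintype F] [Finite V] in
theorem two_self (F : Type*) [Field F] [CharP F 2] {V : Type*} [AddCommGroup V] [Module F V] (x : V) : x + x = 0 := by
  have h1 : (2 : F) = 0 := CharTwo.two_eq_zero
  have h2 : x + x = (2 : F) • x := by rw [two_smul]
  rw [h2, h1, zero_smul]

/-- a fixed isotropic vector -/
theorem Rep.exists_iso (hF : Fintype.card F = q ^ 2) (H : HS q h) (R : Rep h ρ σ) (hP : IsPGroup 2 P) {u : V}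
    (hu0 : u ≠ 0) (hu : h u u = 0) : ∃ x, x ≠ 0 ∧ h x x = 0 ∧ ∀ a, σ a x = x := by
  classical
  have hself : ∀ x, h x x = 0 → h (x + (if h x u = 0 then (1 : F) else h x u) • u)
      (x + (if h x u = 0 then (1 : F) else h x u) • u) = 0 := by
    intro x hx
    rw [H.add, H.add_right hF, H.add_right hF, H.smul, H.smul, H.smul_right hF, H.smul_right hF, hu, hx,
      H.swap x u]
    split_ifs with h0
    · rw [h0, zero_pow_q hF]; ring
    · have h3 : h x u ^ q * h x u + h x u * h x u ^ q = 0 := by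
        rw [mul_comm (h x u)]
        exact CharTwo.add_self_eq_zero _
      linear_combination h3
  have hpair : ∀ x, h (x + (if h x u = 0 then (1 : F) else h x u) • u) u = h x u := by
    intro x
    rw [H.add, H.smul, hu, mul_zero, add_zero]
  refine R.exists_fix hP (fun x => h x x = 0) (fun a x hx => by rw [R.herm, hx, map_zero]) (H.zero_left 0)
    (fun x => x + (if h x u = 0 then (1 : F) else h x u) • u) hself ?_ ?_
  · intro x _
    simp only [hpair x]
    rw [add_assoc, two_self F, add_zero]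
  · intro x _ hx
    simp only [add_eq_left] at hx
    rcases smul_eq_zero.1 hx with h3 | h3
    · split_ifs at h3 with h4
      · exact one_ne_zero h3
      · exact h4 h3
    · exact hu0 h3

omit [Fintype F] in
/-- a fixed vector -/
theorem Rep.exists_vec (R : Rep h ρ σ) (hP : IsPGroup 2 P) {u : V} (hu0 : u ≠ 0) :
    ∃ x, x ≠ 0 ∧ ∀ a, σ a x = x := by
  obtain ⟨x, h1, -, h2⟩ := R.exists_fix hP (fun _ => True) (fun _ _ _ => trivial) trivial (fun x => x + u)
    (fun _ _ => trivial) (fun x _ => by rw [add_assoc, two_self F, add_zero])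
    (fun x _ hx => hu0 (by rwa [add_eq_left] at hx))
  exact ⟨x, h1, h2⟩

end

/-- a Witt basis, fixed modulo the flag -/
structure WBasis {F : Type*} [Field F] {V : Type*} [AddCommGroup V] [Module F V] (h : V → V → F) {P : Type*}
    (σ : P → V → V) (n : ℕ) (v : ℕ → V) : Prop where
  gram : ∀ i < n, ∀ j < n, h (v i) (v j) = if i + j + 1 = n then 1 else 0
  span : ∀ x, (∀ i < n, h x (v i) = 0) → x = 0
  uni : ∀ a, ∀ k < n, ∀ i, i + k < n → h (σ a (v k) - v k) (v i) = 0

section

variable {F : Type*} [Field F] [Fintype F] [CharP F 2] {q : ℕ} {P : Type*} [Group P] {ρ : P →* (F ≃+* F)}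

/-- anisotropic spaces -/
theorem flag_aniso (hF : Fintype.card F = q ^ 2) (hP : IsPGroup 2 P) {V : Type u} [AddCommGroup V] [Module F V]
    [Finite V] {h : V → V → F} {σ : P → V → V} (H : HS q h) (R : Rep h ρ σ)
    (hno : ∀ u : V, h u u = 0 → u = 0) : ∃ (n : ℕ) (v : ℕ → V), WBasis h σ n v := by
  by_cases hV : ∀ x : V, x = 0
  · exact ⟨0, fun _ => 0, fun i hi => absurd hi (Nat.not_lt_zero i), fun x _ => hV x,
      fun a k hk => absurd hk (Nat.not_lt_zero k)⟩
  push Not at hV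
  obtain ⟨u, hu⟩ := hV
  obtain ⟨d, hd0, hd⟩ := R.exists_vec hP hu
  have hκ0 : h d d ≠ 0 := fun h0 => hd0 (hno d h0)
  have hκq : h d d ^ q = h d d := (H.swap d d).symm
  have hκρ : ∀ a, ρ a (h d d) = h d d := fun a => by rw [← R.herm, hd]
  have hinj : ∀ x y : F, x ^ 2 = y ^ 2 → x = y := fun x y hxy => by
    have h1 : (x - y) ^ 2 = 0 := by
      rw [sub_sq, hxy]
      have h2 : (2 : F) = 0 := CharTwo.two_eq_zero
      linear_combination (y ^ 2 - x * y) * h2
    exact sub_eq_zero.1 (pow_eq_zero_iff (two_ne_zero)|>.1 h1)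
  obtain ⟨l, hl⟩ : ∃ l : F, l ^ 2 = h d d := by
    have h1 : Function.Surjective (fun x : F => x ^ 2) := Finite.surjective_of_injective fun x y => hinj x y
    exact h1 _
  have hl0 : l ≠ 0 := by
    rintro rfl
    exact hκ0 (by rw [← hl]; ring)
  have hlq : l ^ q = l := hinj _ _ (by rw [← pow_mul, mul_comm, pow_mul, hl, hκq])
  have hlρ : ∀ a, ρ a l = l := fun a => hinj _ _ (by rw [← map_pow, hl, hκρ])
  have hdd : h (l⁻¹ • d) (l⁻¹ • d) = 1 := by
    rw [H.smul, H.smul_right hF, inv_pow, hlq, ← hl]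
    field_simp
  refine ⟨1, fun _ => l⁻¹ • d, ?_, ?_, ?_⟩
  · intro i hi j hj
    rw [if_pos (by omega), hdd]
  · intro x hx
    have h1 := hx 0 Nat.one_pos
    by_contra hx0
    obtain ⟨c, hc⟩ := exists_norm_eq hF (c := -h x x) (by rw [neg_pow_q hF, ← H.swap])
    have h2 : h (l⁻¹ • d) x = 0 := by rw [H.swap x, h1, zero_pow_q hF]
    have h3 := hno (x + c • (l⁻¹ • d)) (by
      rw [H.add, H.add_right hF, H.add_right hF, H.smul c, H.smul c, H.smul_right hF c, H.smul_right hF c, h1, h2, hdd]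
      linear_combination hc)
    have h4 : h (x + c • (l⁻¹ • d)) (l⁻¹ • d) = c := by
      rw [H.add, h1, H.smul c, hdd, zero_add, mul_one]
    rw [h3, H.zero_left] at h4
    rw [← h4, zero_smul, add_zero] at h3
    exact hx0 h3
  · intro a k _ i _
    rw [R.smul, map_inv₀, hlρ, hd, sub_self, H.zero_left]

/-- **The flag theorem.** -/
theorem flag_abs (hF : Fintype.card F = q ^ 2) (hP : IsPGroup 2 P) (N : ℕ) : ∀ (V : Type u) [AddCommGroup V]
    [Module F V] [Finite V] (h : V → V → F) (σ : P → V → V) (_ : HS q h) (_ : Rep h ρ σ) (_ : Nat.card V ≤ N),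
    ∃ (n : ℕ) (v : ℕ → V), WBasis h σ n v := by
  induction N with
  | zero =>
    intro V _ _ _ h σ H R hN
    have : Nonempty V := ⟨0⟩
    have := Nat.card_pos (α := V)
    omega
  | succ N ih =>
    intro V _ _ _ h σ H R hN
    by_cases hno : ∀ u : V, h u u = 0 → u = 0
    · exact flag_aniso hF hP H R hno
    push Not at hno
    obtain ⟨u, hu, hu0⟩ := hno
    obtain ⟨e, he0, he, hef⟩ := R.exists_iso hF H hP hu0 hu
    -- the partner
    obtain ⟨y, hy⟩ : ∃ y, h e y ≠ 0 := by
      by_contra hcon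
      push Not at hcon
      exact he0 (H.nondeg e hcon)
    obtain ⟨y', hy'⟩ : ∃ y', h e y' = 1 := by
      refine ⟨((h e y)⁻¹) ^ q • y, ?_⟩
      rw [H.smul_right hF, pow_q_pow_q hF, inv_mul_cancel₀ hy]
    obtain ⟨d, hd⟩ := exists_trace_eq hF (c := -h y' y') (by rw [neg_pow_q hF, ← H.swap])
    obtain ⟨f, hf, hf1, hf2⟩ : ∃ f, h f f = 0 ∧ h e f = 1 ∧ h f e = 1 := by
      have h1 : h y' e = 1 := by rw [H.swap e, hy', one_pow]
      have h2 : h e (y' + d • e) = 1 := by rw [H.add_right hF, H.smul_right hF, he, mul_zero, add_zero, hy']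
      refine ⟨y' + d • e, ?_, h2, ?_⟩
      · rw [H.add, H.smul, h2, H.add_right hF, H.smul_right hF, h1]
        linear_combination hd
      · rw [H.swap e, h2, one_pow]
    let W : Submodule F V :=
      { carrier := {w | h w e = 0 ∧ h w f = 0}
        zero_mem' := ⟨H.zero_left _, H.zero_left _⟩
        add_mem' := fun {a b} ha hb => ⟨by rw [H.add, ha.1, hb.1, add_zero], by rw [H.add, ha.2, hb.2, add_zero]⟩
        smul_mem' := fun c x hx => ⟨by rw [H.smul, hx.1, mul_zero], by rw [H.smul, hx.2, mul_zero]⟩ }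
    have hWmem : ∀ w, w ∈ W ↔ h w e = 0 ∧ h w f = 0 := fun _ => Iff.rfl
    have hproj : ∀ x, x - h x f • e - h x e • f ∈ W := by
      intro x
      rw [hWmem]
      constructor
      · rw [H.sub, H.sub, H.smul, H.smul, he, hf2]; ring
      · rw [H.sub, H.sub, H.smul, H.smul, hf, hf1]; ring
    have hHW : HS q (fun x y : W => h x y) := by
      refine ⟨fun x y z => H.add _ _ _, fun c x y => H.smul _ _ _, fun x y => H.swap _ _, ?_⟩
      intro x hx
      apply Subtype.ext
      apply H.nondeg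
      intro y
      have h1 := hx ⟨_, hproj y⟩
      have h2 : y = (y - h y f • e - h y e • f) + h y f • e + h y e • f := by abel
      rw [h2, H.add_right hF, H.add_right hF, H.smul_right hF, H.smul_right hF, x.2.1, x.2.2, mul_zero, mul_zero,
        add_zero, add_zero]
      exact h1
    have hσW : ∀ a (w : V), w ∈ W → σ a w - h (σ a w) f • e ∈ W := by
      intro a w hw
      rw [hWmem]
      constructor
      · have h1 : h (σ a w) e = 0 := by
          conv_lhs => rw [← hef a]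
          rw [R.herm, hw.1, map_zero]
        rw [H.sub, H.smul, he, h1]; ring
      · rw [H.sub, H.smul, hf1]; ring
    let τ : P → W → W := fun a w => ⟨σ a w - h (σ a w) f • e, hσW a w w.2⟩
    have hτ : ∀ a (w : W), (τ a w : V) = σ a w - h (σ a w) f • e := fun _ _ => rfl
    have huniq : ∀ (w w' : W) (c : F), (w : V) = w' + c • e → w = w' := by
      intro w w' c hc
      have h1 := w.2.2
      rw [hc, H.add, H.smul, w'.2.2, hf1, zero_add, mul_one] at h1
      apply Subtype.ext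
      rw [hc, h1, zero_smul, add_zero]
    have hRW : Rep (fun x y : W => h x y) ρ τ := by
      refine ⟨?_, ?_, ?_, ?_, ?_⟩
      · intro x
        refine huniq _ _ (-h (x : V) f) ?_
        rw [hτ, R.one, neg_smul]; abel
      · intro a b x
        refine huniq _ _ (-h (σ (a * b) x) f + ρ a (h (σ b x) f) + h (σ a (τ b x)) f) ?_
        rw [hτ, hτ a, hτ b, R.sub, R.smul, hef, ← R.mul]
        module
      · intro a x y
        apply Subtype.ext
        change σ a ((x : V) + y) - h (σ a ((x : V) + y)) f • e = (σ a x - h (σ a x) f • e) + (σ a y - h (σ a y) f • e)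
        rw [R.add, H.add]
        module
      · intro a c x
        apply Subtype.ext
        change σ a (c • (x : V)) - h (σ a (c • (x : V))) f • e = ρ a c • (σ a x - h (σ a x) f • e)
        rw [R.smul, H.smul]
        module
      · intro a x y
        have hx := (hσW a x x.2).1
        have hy := (hσW a y y.2).1
        have h1 : h e (σ a y) = 0 := by
          conv_lhs => rw [← hef a]
          rw [R.herm, H.swap (y : V), y.2.1, zero_pow_q hF, map_zero]
        have h2 : h (σ a x) e = 0 := by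
          conv_lhs => rw [← hef a]
          rw [R.herm, x.2.1, map_zero]
        change h (σ a x - h (σ a x) f • e) (σ a y - h (σ a y) f • e) = ρ a (h x y)
        have h3 : ∀ z, h z (σ a y - h (σ a y) f • e) = h z (σ a y) - (h (σ a y) f) ^ q * h z e := by
          intro z
          have h4 := H.add_right hF z (σ a y - h (σ a y) f • e) (h (σ a y) f • e)
          rw [sub_add_cancel, H.smul_right hF] at h4
          rw [h4, add_sub_cancel_right]
        rw [H.sub, H.smul, h3, h3, h1, h2, he, R.herm]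
        ring
    have hlt : Nat.card W < Nat.card V := by
      have h1 : W ≠ ⊤ := by
        intro h2
        have h3 : f ∈ W := h2 ▸ Submodule.mem_top
        exact one_ne_zero (hf2.symm.trans h3.1)
      have h2 : (W : Set V) ⊂ Set.univ := by
        rw [Set.ssubset_univ_iff]
        intro h3
        exact h1 (SetLike.coe_injective h3)
      have h3 := Set.ncard_lt_ncard h2 (Set.toFinite _)
      rwa [Set.ncard_univ, ← Nat.card_coe_set_eq] at h3
    obtain ⟨n, w, hw⟩ := ih W (fun x y : W => h x y) τ hHW hRW (by omega)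
    have heW : ∀ x : W, h e x = 0 := fun x => by rw [H.swap (x : V), x.2.1, zero_pow_q hF]
    have hfW : ∀ x : W, h f x = 0 := fun x => by rw [H.swap (x : V), x.2.2, zero_pow_q hF]
    refine ⟨n + 2, fun i => if i = 0 then e else if i = n + 1 then f else (w (i - 1) : V), ?_, ?_, ?_⟩
    · intro i hi j hj
      rcases Nat.eq_zero_or_pos i with hi0 | hi0
      · rw [if_pos hi0]
        rcases Nat.eq_zero_or_pos j with hj0 | hj0
        · rw [if_pos hj0, he, if_neg (by omega)]
        · rw [if_neg (by omega : ¬ j = 0)]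
          by_cases hj1 : j = n + 1
          · rw [if_pos hj1, hf1, if_pos (by omega)]
          · rw [if_neg hj1, heW, if_neg (by omega)]
      · rw [if_neg (by omega : ¬ i = 0)]
        by_cases hi1 : i = n + 1
        · rw [if_pos hi1]
          rcases Nat.eq_zero_or_pos j with hj0 | hj0
          · rw [if_pos hj0, hf2, if_pos (by omega)]
          · rw [if_neg (by omega : ¬ j = 0)]
            by_cases hj1 : j = n + 1
            · rw [if_pos hj1, hf, if_neg (by omega)]
            · rw [if_neg hj1, hfW, if_neg (by omega)]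
        · rw [if_neg hi1]
          rcases Nat.eq_zero_or_pos j with hj0 | hj0
          · rw [if_pos hj0, (w (i - 1)).2.1, if_neg (by omega)]
          · rw [if_neg (by omega : ¬ j = 0)]
            by_cases hj1 : j = n + 1
            · rw [if_pos hj1, (w (i - 1)).2.2, if_neg (by omega)]
            · rw [if_neg hj1]
              have h1 := hw.gram (i - 1) (by omega) (j - 1) (by omega)
              rw [h1]
              by_cases h2 : i + j + 1 = n + 2
              · rw [if_pos h2, if_pos (by omega)]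
              · rw [if_neg h2, if_neg (by omega)]
    · intro x hx
      have h1 : h x e = 0 := by simpa using hx 0 (by omega)
      have h2 : h x f = 0 := by simpa using hx (n + 1) (by omega)
      have h3 := hw.span ⟨x, h1, h2⟩ (fun i hi => by
        have h4 := hx (i + 1) (by omega)
        rw [if_neg (by omega), if_neg (by omega), Nat.add_sub_cancel] at h4
        exact h4)
      exact congrArg Subtype.val h3
    · intro a k hk i hik
      rcases Nat.eq_zero_or_pos k with hk0 | hk0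
      · rw [if_pos hk0, hef, sub_self, H.zero_left]
      rw [if_neg (by omega : ¬ k = 0)]
      by_cases hk1 : k = n + 1
      · rw [if_pos hk1, if_pos (by omega : i = 0), H.sub]
        have h1 : h (σ a f) e = 1 := by
          conv_lhs => rw [← hef a]
          rw [R.herm, hf2, map_one]
        rw [h1, hf2, sub_self]
      rw [if_neg hk1]
      have h1 : σ a (w (k - 1) : V) - (w (k - 1) : V) =
          ((τ a (w (k - 1)) - w (k - 1) : W) : V) + h (σ a (w (k - 1) : V)) f • e := by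
        rw [Submodule.coe_sub, hτ]
        abel
      rw [h1, H.add, H.smul]
      rcases Nat.eq_zero_or_pos i with hi0 | hi0
      · rw [if_pos hi0, he, (τ a (w (k - 1)) - w (k - 1) : W).2.1]; ring
      · rw [if_neg (by omega : ¬ i = 0), if_neg (by omega : ¬ i = n + 1), heW]
        have h2 := hw.uni a (k - 1) (by omega) (i - 1) (by omega)
        rw [h2]; ring

end

end Cfsg.Agent.OddHalf.D4.UnB

end

-- merged: Cfsg.Agent.OddHalf.D4.UnB.Lift
section

/-!
# ODD, D4, (1B): the flag of a 2-group of automorphisms of `PSU n F q`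

`exists_lift_group`: a 2-subgroup of `Aut (PSU n F q)` lifts to a 2-group of semilinear isometries.
`exists_flag`: `T` a Sylow 2-subgroup of `PSU n F q`, `A` good for `T`: there is a Witt basis `v` such that `T` is the
image of the unitriangular group and every element of `A` is `toAut M ρ` with `sg M ρ` unitriangular (`Uni`).
-/

set_option autoImplicit false

namespace Cfsg.Agent.OddHalf.D4.UnB

open Cfsg Cfsg.Agent.LieClassical.HermBasic Cfsg.Agent.LieClassical.HermSiegel
  Cfsg.Agent.LieClassical.HermGen Cfsg.Agent.LieClassical.SUBasic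
  Cfsg.Agent.ClassicalGeometry.PSUAutBasic Cfsg.Agent.ClassicalGeometry.PSUAutUnip
  Cfsg.Agent.KFacts.Unit Cfsg.Agent.OddHalf.D4.Free

open Cfsg.Agent.ClassicalGeometry.PSUAutCount (gm semiConj toAut)

variable {F : Type*} [Field F] [Fintype F] {q n : ℕ}

instance finite_ringAut : Finite (F ≃+* F) :=
  Finite.of_injective (fun ρ : F ≃+* F => (ρ : F → F)) (fun _ _ h => RingEquiv.ext fun x => congrFun h x)

/-- semi-isometries with the automorphisms they induce -/
def RG (F : Type*) [Field F] [Fintype F] (q n : ℕ) (hF : Fintype.card F = q ^ 2) :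
    Subgroup (Equiv.Perm (Fin n → F) × (F ≃+* F) × MulAut (PSU n F q)) :=
  let S : Submonoid (Equiv.Perm (Fin n → F) × (F ≃+* F) × MulAut (PSU n F q)) :=
    { carrier := {x | ∃ M : GU n F q, (∀ w, x.1 w = sg M x.2.1 w) ∧ x.2.2 = toAut M x.2.1}
      one_mem' := by
        obtain ⟨A, h1, h2⟩ := exists_toAut_conj hF (1 : SU n F q)
        refine ⟨A, fun w => ?_, ?_⟩
        · rw [Prod.fst_one, Equiv.Perm.one_apply]
          exact ((h1 w).trans (act_one w)).symm
        · rw [map_one, map_one] at h2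
          exact h2
      mul_mem' := by
        rintro x y ⟨A, hA, hA'⟩ ⟨B, hB, hB'⟩
        obtain ⟨C, hC, hC'⟩ := exists_toAut_mul hF A B x.2.1 y.2.1
        refine ⟨C, fun w => ?_, ?_⟩
        · rw [Prod.fst_mul, Equiv.Perm.mul_apply, hA, hB]
          exact (hC w).symm
        · rw [Prod.snd_mul, Prod.snd_mul, hA', hB']
          exact hC' }
  { S with
    inv_mem' := by
      intro x hx
      have h1 : x ^ (orderOf x - 1) = x⁻¹ := by
        rw [eq_inv_iff_mul_eq_one, ← pow_succ, Nat.sub_add_cancel (orderOf_pos x), pow_orderOf_eq_one]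
      have h0 : x ∈ S := hx
      have h2 : x ^ (orderOf x - 1) ∈ S := pow_mem h0 _
      rw [h1] at h2
      exact h2 }

theorem mem_RG {hF : Fintype.card F = q ^ 2} {x : Equiv.Perm (Fin n → F) × (F ≃+* F) × MulAut (PSU n F q)} :
    x ∈ RG F q n hF ↔ ∃ M : GU n F q, (∀ w, x.1 w = sg M x.2.1 w) ∧ x.2.2 = toAut M x.2.1 := Iff.rfl

/-- every automorphism is induced by a semi-isometry -/
theorem RG_surj (hF : Fintype.card F = q ^ 2) (hn : 3 ≤ n) (h32 : ¬ (n = 3 ∧ q = 2)) (α : MulAut (PSU n F q)) :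
    ∃ x ∈ RG F q n hF, x.2.2 = α := by
  obtain ⟨M, ρ, hM⟩ := Cfsg.Agent.ClassicalGeometry.PSUAutMain.exists_toAut (F := F) (q := q) (n := n) hF hn h32 α
  have hinj : Function.Injective (sg M ρ) := by
    intro x y h
    have h1 : sg M ρ (x - y) = 0 := by
      have h2 := sg_add M ρ (x - y) y
      rw [sub_add_cancel] at h2
      rw [h] at h2
      exact (left_eq_add.1 (h2.trans (add_comm _ _)))
    exact sub_eq_zero.1 (sg_eq_zero M ρ h1)
  have hbij : Function.Bijective (sg M ρ) := ⟨hinj, fun x => exists_sg M ρ x⟩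
  exact ⟨(Equiv.ofBijective _ hbij, ρ, α), ⟨M, fun _ => rfl, hM⟩, rfl⟩

/-- **A 2-group of automorphisms lifts to a 2-group of semilinear isometries.** -/
theorem exists_lift_group (hF : Fintype.card F = q ^ 2) (hn : 3 ≤ n) (h32 : ¬ (n = 3 ∧ q = 2))
    {A : Subgroup (MulAut (PSU n F q))} (hA : IsPGroup 2 ↥A) :
    ∃ P : Subgroup (Equiv.Perm (Fin n → F) × (F ≃+* F) × MulAut (PSU n F q)), IsPGroup 2 ↥P ∧ P ≤ RG F q n hF ∧
      ∀ α ∈ A, ∃ x ∈ P, x.2.2 = α := by
  have : Fact (Nat.Prime 2) := ⟨Nat.prime_two⟩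
  let π : ↥(RG F q n hF) →* MulAut (PSU n F q) :=
    ((MonoidHom.snd _ _).comp (MonoidHom.snd _ _)).comp (RG F q n hF).subtype
  have hπ : ∀ x, π x = (x : Equiv.Perm (Fin n → F) × (F ≃+* F) × MulAut (PSU n F q)).2.2 := fun _ => rfl
  have hsurj : Function.Surjective (π.subgroupComap A) := by
    rintro ⟨α, hα⟩
    obtain ⟨x, hx, rfl⟩ := RG_surj hF hn h32 α
    exact ⟨⟨⟨x, hx⟩, hα⟩, rfl⟩
  obtain ⟨P⟩ : Nonempty (Sylow 2 ↥(A.comap π)) := inferInstance
  have h1 : (P : Subgroup ↥(A.comap π)).map (π.subgroupComap A) = ⊤ := by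
    have h2 : IsPGroup 2 ↥(⊤ : Subgroup ↥A) := hA.to_subgroup ⊤
    have h3 := (P.mapSurjective hsurj).is_maximal' h2 le_top
    rw [← Sylow.coe_mapSurjective hsurj P]
    exact h3.symm
  refine ⟨((P : Subgroup ↥(A.comap π)).map (A.comap π).subtype).map (RG F q n hF).subtype,
    (P.isPGroup'.map _).map _, ?_, ?_⟩
  · rintro _ ⟨y, -, rfl⟩
    exact y.2
  · intro α hα
    have h2 : (⟨α, hα⟩ : ↥A) ∈ (P : Subgroup ↥(A.comap π)).map (π.subgroupComap A) := h1 ▸ Subgroup.mem_top _
    obtain ⟨y, hy, hyα⟩ := h2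
    exact ⟨_, ⟨_, ⟨y, hy, rfl⟩, rfl⟩, congrArg Subtype.val hyα⟩

/-- **The flag theorem for a 2-group of automorphisms.** -/
theorem exists_flag0 [CharP F 2] (hF : Fintype.card F = q ^ 2) (hn : 3 ≤ n) (h32 : ¬ (n = 3 ∧ q = 2))
    {A : Subgroup (MulAut (PSU n F q))} (hA : IsPGroup 2 ↥A) :
    ∃ v : ℕ → Fin n → F, Wb q v ∧ ∀ e ∈ A, ∃ (M : GU n F q) (ρ : F ≃+* F), e = toAut M ρ ∧ Uni q v M ρ := by
  obtain ⟨P, hP, hPR, hPA⟩ := exists_lift_group hF hn h32 hA
  let ρ : ↥P →* (F ≃+* F) := ((MonoidHom.fst _ _).comp (MonoidHom.snd _ _)).comp P.subtype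
  let σ : ↥P → (Fin n → F) → (Fin n → F) := fun x w => (x : Equiv.Perm (Fin n → F) × (F ≃+* F) × MulAut (PSU n F q)).1 w
  have hσ : ∀ x : ↥P, ∃ M : GU n F q, (∀ w, σ x w = sg M (ρ x) w) ∧
      (x : Equiv.Perm (Fin n → F) × (F ≃+* F) × MulAut (PSU n F q)).2.2 = toAut M (ρ x) := fun x => hPR x.2
  have hH : HS q (hermForm n F q) := ⟨fun x y z => herm_add_left x y z, fun c x y => herm_smul_left c x y,
    fun x y => herm_swap hF x y, fun x hx => herm_nondeg hF hx⟩
  have hR : Rep (hermForm n F q) ρ σ := by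
    refine ⟨fun x => rfl, fun a b x => rfl, ?_, ?_, ?_⟩
    · intro a x y
      obtain ⟨M, hM, -⟩ := hσ a
      rw [hM, hM, hM, sg_add]
    · intro a c x
      obtain ⟨M, hM, -⟩ := hσ a
      rw [hM, hM, sg_smul]
    · intro a x y
      obtain ⟨M, hM, -⟩ := hσ a
      rw [hM, hM, herm_sg]
  obtain ⟨m, v, hv⟩ := flag_abs hF hP _ (Fin n → F) (hermForm n F q) σ hH hR le_rfl
  -- the dimension
  have hmn : m = n := by
    apply le_antisymm
    · have h1 : LinearIndependent F (fun i : Fin m => v i) := by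
        rw [Fintype.linearIndependent_iff]
        intro g hg i
        have h1 := congrArg (fun x => hermForm n F q x (v (m - 1 - i))) hg
        simp only [herm_zero_left, herm_sum_left, herm_smul_left] at h1
        rw [Finset.sum_eq_single i] at h1
        · rwa [hv.gram i i.2 _ (by omega), if_pos (by omega), mul_one] at h1
        · intro j _ hj
          have h2 : (j : ℕ) ≠ i := fun h => hj (Fin.ext h)
          rw [hv.gram j j.2 _ (by omega), if_neg (by omega), mul_zero]
        · intro hi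
          exact absurd (Finset.mem_univ i) hi
      have h2 := h1.fintype_card_le_finrank
      rwa [Fintype.card_fin, Module.finrank_fin_fun] at h2
    · let L : (Fin n → F) →ₗ[F] (Fin m → F) :=
        { toFun := fun x i => hermForm n F q x (v i)
          map_add' := fun x y => by funext i; exact herm_add_left _ _ _
          map_smul' := fun c x => by funext i; exact herm_smul_left _ _ _ }
      have h1 : Function.Injective L := by
        rw [← LinearMap.ker_eq_bot, LinearMap.ker_eq_bot']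
        intro x hx
        exact hv.span x fun i hi => congrFun hx ⟨i, hi⟩
      have h2 := LinearMap.finrank_le_finrank_of_injective h1
      rwa [Module.finrank_fin_fun, Module.finrank_fin_fun] at h2
  subst hmn
  refine ⟨v, ⟨hv.gram⟩, fun e he => ?_⟩
  obtain ⟨x, hx, rfl⟩ := hPA e he
  obtain ⟨M, hM, hM'⟩ := hσ ⟨x, hx⟩
  refine ⟨M, ρ ⟨x, hx⟩, hM', fun k hk i hi => ?_⟩
  rw [← hM]
  exact hv.uni _ k hk i hi

/-- **The flag theorem.** -/
theorem exists_flag [CharP F 2] (hF : Fintype.card F = q ^ 2) (hn : 3 ≤ n) (h32 : ¬ (n = 3 ∧ q = 2))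
    (T : Sylow 2 (PSU n F q)) {A : Subgroup (MulAut (PSU n F q))} (hA : GoodA T A) :
    ∃ v : ℕ → Fin n → F, Wb q v ∧ (T : Subgroup (PSU n F q)) = (Ug q v 1).map (pr n F q) ∧
      ∀ e ∈ A, ∃ (M : GU n F q) (ρ : F ≃+* F), e = toAut M ρ ∧ Uni q v M ρ := by
  have h2 : Fact (Nat.Prime 2) := ⟨Nat.prime_two⟩
  obtain ⟨v, W, hv⟩ := exists_flag0 hF hn h32 hA.two
  refine ⟨v, W, ?_, hv⟩
  have hle : (T : Subgroup (PSU n F q)) ≤ (Ug q v 1).map (pr n F q) := by
    intro t ht
    obtain ⟨k, hk⟩ := T.isPGroup' ⟨t, ht⟩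
    have hk' : t ^ 2 ^ k = 1 := congrArg Subtype.val hk
    obtain ⟨s, rfl, l, hl⟩ := exists_lift hF hn hk'
    refine ⟨s, ?_, rfl⟩
    obtain ⟨M, ρ, h1, hU⟩ := hv _ (hA.inn _ ht)
    obtain ⟨B, hB, h3⟩ := exists_toAut_conj hF s
    rw [h3] at h1
    obtain ⟨hρ, c, hc, hcM⟩ := Cfsg.Agent.ClassicalGeometry.PSUAutCount.eq_of_toAut_eq hF hn h1
    subst hρ
    have h4 : ∀ w, sg M 1 w = c • act s w := by
      intro w
      rw [← hB, sg, hcM, Matrix.smul_mulVec]
      rfl
    have hc0 : c ≠ 0 := by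
      rintro rfl
      rw [zero_mul] at hc
      exact zero_ne_one hc
    have hv0 : v 0 ≠ 0 := by
      intro h0
      have h5 := W.gram 0 (by omega) (n - 1) (by omega)
      rw [h0, herm_zero_left, if_pos (by omega)] at h5
      exact zero_ne_one h5
    have h5 : sg M 1 (v 0) = v 0 := sub_eq_zero.1 (Vf_zero hF W (hU 0 (by omega)))
    rw [h4] at h5
    have h6 : act s (v 0) = c⁻¹ • v 0 := by rw [← h5, smul_smul, inv_mul_cancel₀ hc0, one_smul, h5]
    have h7 := fix_of_pow 2 hv0 h6 hl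
    have hc1 : c = 1 := by
      rw [h7] at h5
      have h8 : (c - 1) • v 0 = 0 := by rw [sub_smul, one_smul, h5, sub_self]
      exact sub_eq_zero.1 ((smul_eq_zero.1 h8).resolve_right hv0)
    refine mem_Ug_of hF W fun k hk => ?_
    have h8 := hU k hk
    rw [h4, hc1, one_smul] at h8
    exact h8
  exact (T.is_maximal' ((isPGroup_Ug hF W).map _) hle).symm

end Cfsg.Agent.OddHalf.D4.UnB

end

-- merged: Cfsg.Agent.OddHalf.D4.UnB.Star
section

/-!
# ODD, D4, (1B): centralizers of the lines of the unitriangular group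

`toAut M ρ` with `sg M ρ` unitriangular (`Uni`), `ρ` trivial on `F_q`, an involution: if it fixes one element
`siegel (v i) (t • w) μ`, `t ≠ 0`, of a line then it fixes the whole line (`star_Ln`, `star_transv`).
-/

set_option autoImplicit false

namespace Cfsg.Agent.OddHalf.D4.UnB

open Cfsg Cfsg.Agent.LieClassical.HermBasic Cfsg.Agent.LieClassical.HermSiegel
  Cfsg.Agent.LieClassical.HermGen Cfsg.Agent.LieClassical.SUBasic
  Cfsg.Agent.ClassicalGeometry.PSUAutBasic Cfsg.Agent.ClassicalGeometry.PSUAutUnip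
  Cfsg.Agent.ClassicalGeometry.PSUAutSylow Cfsg.Agent.ClassicalGeometry.PSUAutExt
  Cfsg.Agent.KFacts.Unit Cfsg.Agent.OddHalf.D4.Free

open Cfsg.Agent.ClassicalGeometry.PSUAutCount (gm semiConj toAut)

variable {F : Type*} [Field F] [Fintype F] {q n : ℕ} {v : ℕ → Fin n → F}

/-- an automorphism trivial on `F_q` is `1` or `x ↦ x ^ q` -/
theorem ringAut_dich (hF : Fintype.card F = q ^ 2) {ρ : F ≃+* F} (hρ : ∀ x : F, x ^ q = x → ρ x = x) :
    (∀ x, ρ x = x) ∨ ∀ x, ρ x = x ^ q := by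
  have h1 : ∀ x, ρ x = x ∨ ρ x = x ^ q := by
    intro x
    have h2 := hρ (x + x ^ q) (by rw [add_pow_q hF, pow_q_pow_q hF, add_comm])
    have h3 := hρ (x * x ^ q) (norm_pow_q hF x)
    rw [map_add, map_pow] at h2
    rw [map_mul, map_pow] at h3
    have h4 : (ρ x - x) * (ρ x - x ^ q) = 0 := by
      linear_combination (ρ x) * h2 - h3
    rcases mul_eq_zero.1 h4 with h5 | h5
    · exact Or.inl (sub_eq_zero.1 h5)
    · exact Or.inr (sub_eq_zero.1 h5)
  by_contra hcon
  push Not at hcon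
  obtain ⟨⟨a, ha⟩, b, hb⟩ := hcon
  have ha' := (h1 a).resolve_left ha
  have hb' := (h1 b).resolve_right hb
  have h2 := h1 (a + b)
  rw [map_add, add_pow_q hF, ha', hb', add_left_inj, add_right_inj] at h2
  rcases h2 with h2 | h2
  · exact ha (ha'.trans h2)
  · exact hb (hb'.trans h2)

/-- an automorphism fixing a Siegel element -/
theorem fix_siegel_iff (hF : Fintype.card F = q ^ 2) (hn : 3 ≤ n) (M : GU n F q) (ρ : F ≃+* F) {u w : Fin n → F}
    {μ : F} (h : IsSiegel q u w μ) :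
    toAut M ρ (pr n F q (siegel hF u w μ h)) = pr n F q (siegel hF u w μ h) ↔
      ∀ x, hermForm n F q x (sg M ρ u) • sg M ρ w + (ρ μ * hermForm n F q x (sg M ρ u) -
        hermForm n F q x (sg M ρ w)) • sg M ρ u =
        hermForm n F q x u • w + (μ * hermForm n F q x u - hermForm n F q x w) • u := by
  rw [Cfsg.Agent.ClassicalGeometry.PSUAutMain.toAut_pr', semiConj_siegel]
  constructor
  · intro h1 x
    have h2 := congrArg (fun g => act g x) (siegel_pr_inj hF hn _ _ h1)
    simp only [act_siegel] at h2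
    rw [add_assoc, add_assoc, add_right_inj] at h2
    exact h2
  · intro h1
    congr 1
    apply ext_act
    intro x
    rw [act_siegel, act_siegel, add_assoc, add_assoc, add_right_inj]
    exact h1 x

/-- transvections -/
theorem star_transv (hF : Fintype.card F = q ^ 2) (hn : 3 ≤ n) {M : GU n F q} {ρ : F ≃+* F}
    (hρ : ∀ x : F, x ^ q = x → ρ x = x) {u : Fin n → F} (hu : hermForm n F q u u = 0) {μ μ' : F}
    (hμ : μ + μ ^ q = 0) (hμ' : μ' + μ' ^ q = 0) (hq : μ ^ q = μ) (hq' : μ' ^ q = μ') (hμ0 : μ ≠ 0)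
    (h : toAut M ρ (pr n F q (transv hF u hu μ hμ)) = pr n F q (transv hF u hu μ hμ)) :
    toAut M ρ (pr n F q (transv hF u hu μ' hμ')) = pr n F q (transv hF u hu μ' hμ') := by
  rw [transv, fix_siegel_iff hF hn] at h ⊢
  intro x
  have h1 := h x
  simp only [sg_zero, smul_zero, zero_add, herm_zero_right hF, sub_zero, hρ μ hq, hρ μ' hq', mul_smul] at h1 ⊢
  have h2 : hermForm n F q x (sg M ρ u) • sg M ρ u = hermForm n F q x u • u := by
    have h3 := congrArg (fun y => μ⁻¹ • y) h1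
    simpa only [smul_smul, inv_mul_cancel_left₀ hμ0] using h3
  rw [h2]

/-- short lines -/
theorem star_short (hF : Fintype.card F = q ^ 2) (hn : 3 ≤ n) {M : GU n F q} {ρ : F ≃+* F}
    (hρ : ∀ x : F, x ^ q = x → ρ x = x) {u w : Fin n → F} {t t' : F} (ht : t ^ q = t) (ht' : t' ^ q = t')
    (ht0 : t ≠ 0) (hs : IsSiegel q u (t • w) 0) (hs' : IsSiegel q u (t' • w) 0)
    (h : toAut M ρ (pr n F q (siegel hF u (t • w) 0 hs)) = pr n F q (siegel hF u (t • w) 0 hs)) :
    toAut M ρ (pr n F q (siegel hF u (t' • w) 0 hs')) = pr n F q (siegel hF u (t' • w) 0 hs') := by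
  rw [fix_siegel_iff hF hn] at h ⊢
  intro x
  have key : ∀ (s : F), s ^ q = s → ∀ a b : Fin n → F,
      hermForm n F q x a • (s • b) + (0 * hermForm n F q x a - hermForm n F q x (s • b)) • a =
        s • (hermForm n F q x a • b - hermForm n F q x b • a) := by
    intro s hs a b
    rw [herm_smul_right, hs]
    module
  have h1 := h x
  rw [sg_smul, hρ t ht, map_zero, key t ht, key t ht] at h1
  rw [sg_smul, hρ t' ht', map_zero, key t' ht', key t' ht']
  congr 1
  have h3 := congrArg (fun y => t⁻¹ • y) h1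
  simpa only [smul_smul, inv_mul_cancel₀ ht0, one_smul] using h3

/-- the square of a unitriangular semi-isometry inducing an involution -/
theorem Uni.sq (hF : Fintype.card F = q ^ 2) (hn : 3 ≤ n) (W : Wb q v) {M : GU n F q} {ρ : F ≃+* F}
    (hU : Uni q v M ρ) (h : toAut M ρ * toAut M ρ = 1) : ∀ x, sg M ρ (sg M ρ x) = x := by
  obtain ⟨B, hB, h1⟩ := exists_toAut_mul hF M M ρ ρ
  obtain ⟨A, hA, h2⟩ := exists_toAut_conj hF (1 : SU n F q)
  rw [map_one, map_one] at h2
  rw [h, h2] at h1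
  obtain ⟨hρ, c, hc, hcM⟩ := Cfsg.Agent.ClassicalGeometry.PSUAutCount.eq_of_toAut_eq hF hn h1
  have h4 : ∀ w, sg M ρ (sg M ρ w) = c • w := by
    intro w
    rw [← hB, hρ, sg, hcM, Matrix.smul_mulVec]
    have h5 := hA w
    rw [sg, act_one] at h5
    rw [h5]
  have h0 : sg M ρ (v 0) = v 0 := sub_eq_zero.1 (Vf_zero hF W (hU 0 (by omega)))
  have hv0 : v 0 ≠ 0 := by
    intro h0
    have h5 := W.gram 0 (by omega) (n - 1) (by omega)
    rw [h0, herm_zero_left, if_pos (by omega)] at h5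
    exact zero_ne_one h5
  have h5 := h4 (v 0)
  rw [h0, h0] at h5
  have h8 : (c - 1) • v 0 = 0 := by rw [sub_smul, one_smul, ← h5, sub_self]
  intro x
  rw [h4, sub_eq_zero.1 ((smul_eq_zero.1 h8).resolve_right hv0), one_smul]

/-- an automorphism fixing a transvection fixes the vector -/
theorem Uni.fix_of_transv (hF : Fintype.card F = q ^ 2) (hn : 3 ≤ n) (W : Wb q v) {M : GU n F q} {ρ : F ≃+* F}
    (hU : Uni q v M ρ) {i : ℕ} (hi : i < n) {μ : F} (hμ0 : μ ≠ 0) (hs : IsSiegel q (v i) 0 μ)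
    (h : toAut M ρ (pr n F q (siegel hF (v i) 0 μ hs)) = pr n F q (siegel hF (v i) 0 μ hs)) :
    sg M ρ (v i) = v i := by
  have hv0 : v i ≠ 0 := by
    intro h0
    have h5 := W.gram i hi (n - 1 - i) (by omega)
    rw [h0, herm_zero_left, if_pos (by omega)] at h5
    exact zero_ne_one h5
  obtain ⟨c, -, hc⟩ := scalar_of_fix_transv hF hn M ρ hv0 hμ0 hs h
  have h1 := hU i hi (n - 1 - i) (by omega)
  rw [hc, herm_sub_left, herm_smul_left, W.gram i hi _ (by omega), if_pos (by omega), mul_one] at h1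
  rw [hc, sub_eq_zero.1 h1, one_smul]

/-- lines with an anisotropic vector -/
theorem star_mid [CharP F 2] (hF : Fintype.card F = q ^ 2) (hn : 3 ≤ n) (W : Wb q v) {M : GU n F q} {ρ : F ≃+* F}
    (hU : Uni q v M ρ) (hρ : ∀ x : F, x ^ q = x → ρ x = x) (h2 : toAut M ρ * toAut M ρ = 1) {i : ℕ} (hi : i < n)
    {w : Fin n → F} (hw : hermForm n F q w w ≠ 0) {t t' μ μ' : F} (ht : t ^ q = t) (ht' : t' ^ q = t')
    (ht0 : t ≠ 0) (hs : IsSiegel q (v i) (t • w) μ) (hs' : IsSiegel q (v i) (t' • w) μ')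
    (h : toAut M ρ (pr n F q (siegel hF (v i) (t • w) μ hs)) = pr n F q (siegel hF (v i) (t • w) μ hs)) :
    toAut M ρ (pr n F q (siegel hF (v i) (t' • w) μ' hs')) = pr n F q (siegel hF (v i) (t' • w) μ' hs') := by
  have htwo : ∀ x : F, x + x = 0 := fun x => CharTwo.add_self_eq_zero x
  have hv0 : v i ≠ 0 := by
    intro h0
    have h5 := W.gram i hi (n - 1 - i) (by omega)
    rw [h0, herm_zero_left, if_pos (by omega)] at h5
    exact zero_ne_one h5
  have htw : hermForm n F q (t • w) (t • w) = t * (t * hermForm n F q w w) := by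
    rw [herm_smul_left, herm_smul_right, ht]
  -- the square is a transvection
  have hu : sg M ρ (v i) = v i := by
    have h3 : siegel hF (v i) (t • w) μ hs * siegel hF (v i) (t • w) μ hs =
        siegel hF (v i) 0 (-hermForm n F q (t • w) (t • w)) ⟨hs.iso, herm_zero_left _, by
          rw [herm_zero_left, neg_pow_q hF, herm_self_pow hF, add_zero, ← neg_add, htwo, neg_zero]⟩ := by
      rw [siegel_mul]
      refine siegel_congr hF _ _ rfl ?_ ?_
      · funext k
        exact CharTwo.add_self_eq_zero _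
      · rw [htwo, zero_sub]
    have h4 := congrArg (fun x => x * x) h
    simp only [← map_mul] at h4
    rw [h3] at h4
    refine hU.fix_of_transv hF hn W hi ?_ _ h4
    rw [htw]
    exact neg_ne_zero.2 (mul_ne_zero ht0 (mul_ne_zero ht0 hw))
  obtain ⟨f, -, huf, hfu⟩ := exists_partner hF hv0 hs.iso
  rw [fix_siegel_iff hF hn] at h ⊢
  simp only [sg_smul, hρ t ht, hρ t' ht', hu] at h ⊢
  -- `y w = w + d u`
  obtain ⟨d, hd⟩ : ∃ d : F, sg M ρ w = w + d • v i := by
    have h3 := h f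
    rw [hfu, mul_one, mul_one, one_smul, one_smul] at h3
    refine ⟨t⁻¹ * (μ - hermForm n F q f (t • w) - (ρ μ - hermForm n F q f (t • sg M ρ w))), ?_⟩
    have h4 : t • sg M ρ w = t • w + (μ - hermForm n F q f (t • w) - (ρ μ - hermForm n F q f (t • sg M ρ w))) • v i := by
      rw [sub_smul (μ - hermForm n F q f (t • w)), ← add_sub_assoc, ← h3]
      abel
    have h5 := congrArg (fun y => t⁻¹ • y) h4
    simp only [smul_add, smul_smul, inv_mul_cancel₀ ht0, one_smul] at h5
    exact h5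
  have hiff : ∀ (s ν : F), s ^ q = s → ∀ x, hermForm n F q x (v i) • s • sg M ρ w + (ρ ν * hermForm n F q x (v i) -
        hermForm n F q x (s • sg M ρ w)) • v i =
        hermForm n F q x (v i) • s • w + (ν * hermForm n F q x (v i) - hermForm n F q x (s • w)) • v i +
          (hermForm n F q x (v i) * (s * d - s * d ^ q + ρ ν - ν)) • v i := by
    intro s ν hs x
    rw [hd, herm_smul_right, herm_smul_right, herm_add_right hF, herm_smul_right, hs]
    module
  have hd2 : t * d - t * d ^ q + ρ μ - μ = 0 := by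
    have h3 := h f
    rw [hiff t μ ht f, add_eq_left, hfu, one_mul] at h3
    exact (smul_eq_zero.1 h3).resolve_right hv0
  intro x
  rw [hiff t' μ' ht' x, add_eq_left]
  have hgoal : t' * d - t' * d ^ q + ρ μ' - μ' = 0 := by
    rcases ringAut_dich hF hρ with h3 | h3
    · rw [h3] at hd2 ⊢
      have h4 : t * (d - d ^ q) = 0 := by linear_combination hd2
      have h5 := (mul_eq_zero.1 h4).resolve_left ht0
      linear_combination t' * h5
    · exfalso
      -- `y² = 1`
      have h4 := hU.sq hF hn W h2 w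
      rw [hd, sg_add, sg_smul, hd, hu, h3, add_assoc, ← add_smul, add_eq_left] at h4
      have h5 := (smul_eq_zero.1 h4).resolve_right hv0
      have h6 : d = d ^ q := by
        have h7 := htwo (d ^ q)
        linear_combination h5 - h7
      rw [h3] at hd2
      have h7 : μ ^ q - μ = 0 := by linear_combination hd2 - t * h6
      have h8 := hs.tr
      have h9 : hermForm n F q (t • w) (t • w) = 0 := by
        have h10 := htwo μ
        linear_combination h8 - h7 - h10
      rw [htw] at h9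
      exact (mul_ne_zero ht0 (mul_ne_zero ht0 hw)) h9
  rw [hgoal, mul_zero, zero_smul]

/-- **star for the lines `Ln`** -/
theorem star_Ln [CharP F 2] (hF : Fintype.card F = q ^ 2) (hn : 3 ≤ n) (W : Wb q v) {M : GU n F q} {ρ : F ≃+* F}
    (hU : Uni q v M ρ) (hρ : ∀ x : F, x ^ q = x → ρ x = x) (h2 : toAut M ρ * toAut M ρ = 1) {i k : ℕ}
    {hik : i < k ∧ i + k + 1 < n} {c : F} (hc : c ≠ 0) {t μ : F} (hs : IsSiegel q (v i) ((t * c) • v k) μ)
    (ht : t ^ q = t) (ht0 : t ≠ 0) (hμ : 2 * k + 1 ≠ n → μ = 0)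
    (h : toAut M ρ (pr n F q (siegel hF (v i) ((t * c) • v k) μ hs)) = pr n F q (siegel hF (v i) ((t * c) • v k) μ hs))
    {x : SU n F q} (hx : x ∈ Ln hF W hik c) : toAut M ρ (pr n F q x) = pr n F q x := by
  obtain ⟨t', μ', hs', ht', hμ', rfl⟩ := hx
  have e1 : ∀ s : F, (s * c) • v k = s • c • v k := fun s => mul_smul _ _ _
  have g1 : ∀ (s ν : F) (a : IsSiegel q (v i) ((s * c) • v k) ν), IsSiegel q (v i) (s • c • v k) ν := fun s ν a => by
    rw [← e1]; exact a
  have g2 : ∀ (s ν : F) (a : IsSiegel q (v i) ((s * c) • v k) ν), siegel hF (v i) ((s * c) • v k) ν a =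
      siegel hF (v i) (s • c • v k) ν (g1 s ν a) := fun s ν a => siegel_congr hF _ _ rfl (e1 s) rfl
  rw [g2] at h ⊢
  by_cases hk : 2 * k + 1 = n
  · refine star_mid hF hn W hU hρ h2 (by omega) ?_ ht ht' ht0 _ _ h
    rw [herm_smul_left, herm_smul_right, W.gram k (by omega) k (by omega), if_pos (by omega), mul_one]
    exact mul_ne_zero hc (pow_ne_zero q hc)
  · obtain rfl := hμ hk
    obtain rfl := hμ' hk
    exact star_short hF hn hρ ht ht' ht0 _ _ h

end Cfsg.Agent.OddHalf.D4.UnB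

end

-- merged: Cfsg.Agent.OddHalf.D4.UnB.Fix
section

/-!
# ODD, D4, (1B): action of the unitriangular semi-isometries on the levels

`lead_conj`: `toAut M ρ` multiplies leading coefficients by `ρ`. `fix_R`, `fix_U`: if `ρ` is trivial on `F_q`, it acts
trivially on `Rg t / Ug (t + 2)` and on `Ug (t + 1) / Rg t`. `rho_of_fixZ`: `ρ` is trivial on `F_q` if `toAut M ρ`
centralizes `Z(T)`.
-/

set_option autoImplicit false

namespace Cfsg.Agent.OddHalf.D4.UnB

open Cfsg Cfsg.Agent.LieClassical.HermBasic Cfsg.Agent.LieClassical.HermSiegel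
  Cfsg.Agent.LieClassical.HermGen Cfsg.Agent.LieClassical.SUBasic
  Cfsg.Agent.ClassicalGeometry.PSUAutBasic Cfsg.Agent.ClassicalGeometry.PSUAutUnip
  Cfsg.Agent.ClassicalGeometry.PSUAutSylow Cfsg.Agent.ClassicalGeometry.PSUAutExt
  Cfsg.Agent.KFacts.Unit Cfsg.Agent.OddHalf.D4.Free

open Cfsg.Agent.ClassicalGeometry.PSUAutCount (gm semiConj toAut)

variable {F : Type*} [Field F] [Fintype F] {q n : ℕ} {v : ℕ → Fin n → F}

omit [Fintype F] in
theorem sg_injective (M : GU n F q) (ρ : F ≃+* F) : Function.Injective (sg M ρ) := by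
  intro x y h
  have h1 : sg M ρ (x - y) = 0 := by
    have h2 := sg_add M ρ (x - y) y
    rw [sub_add_cancel] at h2
    rw [h] at h2
    exact (left_eq_add.1 (h2.trans (add_comm _ _)))
  exact sub_eq_zero.1 (sg_eq_zero M ρ h1)

omit [Fintype F] in
theorem sg_sub (M : GU n F q) (ρ : F ≃+* F) (x y : Fin n → F) : sg M ρ (x - y) = sg M ρ x - sg M ρ y := by
  have h2 := sg_add M ρ (x - y) y
  rw [sub_add_cancel] at h2
  rw [h2, add_sub_cancel_right]

/-- `V_a ⊥ V_b` for `a + b ≤ n` -/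
theorem Vf_orth (hF : Fintype.card F = q ^ 2) (W : Wb q v) {a b : ℕ} (hab : a + b ≤ n) {x z : Fin n → F}
    (hx : x ∈ Vf q v a) (hz : z ∈ Vf q v b) : hermForm n F q x z = 0 := by
  refine W.induct hF (p := fun z => hermForm n F q x z = 0) (herm_zero_right hF _) ?_ ?_ ?_ hz
  · intro y z hy hz
    rw [herm_add_right hF, hy, hz, add_zero]
  · intro c y hy
    rw [herm_smul_right, hy, mul_zero]
  · intro k hk hkb
    exact hx k (by omega)

theorem Uni.map_mem (hF : Fintype.card F = q ^ 2) (W : Wb q v) {M : GU n F q} {ρ : F ≃+* F}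
    (hU : Uni q v M ρ) {a : ℕ} {x : Fin n → F} (hx : x ∈ Vf q v a) : sg M ρ x ∈ Vf q v a := by
  refine W.induct hF (p := fun x => sg M ρ x ∈ Vf q v a) ?_ ?_ ?_ ?_ hx
  · rw [sg_zero]; exact zero_mem _
  · intro x y hx hy
    rw [sg_add]; exact add_mem hx hy
  · intro c x hx
    rw [sg_smul]; exact Submodule.smul_mem _ _ hx
  · intro k hk hka
    have h1 := add_mem (Vf_mono (v := v) (q := q) hka.le (hU k hk)) (W.mem hka hk)
    rwa [sub_add_cancel] at h1

theorem Uni.exists_mem (hF : Fintype.card F = q ^ 2) (W : Wb q v) {M : GU n F q} {ρ : F ≃+* F}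
    (hU : Uni q v M ρ) {a : ℕ} {y : Fin n → F} (hy : y ∈ Vf q v a) : ∃ x ∈ Vf q v a, sg M ρ x = y := by
  have h2 : Function.Surjective (fun x : ↥(Vf q v a) => (⟨sg M ρ x, hU.map_mem hF W x.2⟩ : ↥(Vf q v a))) := by
    apply Finite.surjective_of_injective
    intro x x' h
    exact Subtype.ext (sg_injective M ρ (congrArg Subtype.val h))
  obtain ⟨x, hx⟩ := h2 ⟨y, hy⟩
  exact ⟨x, x.2, congrArg Subtype.val hx⟩

/-- preimage of `v k` -/
theorem Uni.exists_pre (hF : Fintype.card F = q ^ 2) (W : Wb q v) {M : GU n F q} {ρ : F ≃+* F}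
    (hU : Uni q v M ρ) {k : ℕ} (hk : k < n) : ∃ x ∈ Vf q v (k + 1), x - v k ∈ Vf q v k ∧ sg M ρ x = v k := by
  obtain ⟨x, hx, hxk⟩ := hU.exists_mem hF W (W.mem (Nat.lt_succ_self k) hk)
  refine ⟨x, hx, ?_, hxk⟩
  obtain ⟨z, hz, hz'⟩ := hU.exists_mem hF W (a := k) (y := v k - sg M ρ (v k)) (by
    rw [← neg_sub]; exact neg_mem (hU k hk))
  have h1 : sg M ρ (x - v k) = sg M ρ z := by rw [sg_sub, hxk, hz']
  rw [sg_injective M ρ h1]
  exact hz

/-- the levels are invariant -/
theorem semiConj_mem_Ug (hF : Fintype.card F = q ^ 2) (W : Wb q v) {M : GU n F q} {ρ : F ≃+* F}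
    (hU : Uni q v M ρ) {j : ℕ} {g : SU n F q} (hg : g ∈ Ug q v j) : semiConj M ρ g ∈ Ug q v j := by
  intro a y hy
  obtain ⟨x, hx, rfl⟩ := hU.exists_mem hF W hy
  rw [act_semiConj', ← sg_sub]
  exact hU.map_mem hF W (hg a x hx)

/-- **leading coefficients** -/
theorem lead_conj (hF : Fintype.card F = q ^ 2) (W : Wb q v) {M : GU n F q} {ρ : F ≃+* F}
    (hU : Uni q v M ρ) {t : ℕ} {g : SU n F q} (hg : g ∈ Ug q v (t + 1)) {k i : ℕ} (hk : k < n) (hi : i < n)
    (hki : k + i = n + t) : hermForm n F q (act (semiConj M ρ g) (v k) - v k) (v i) =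
      ρ (hermForm n F q (act g (v k) - v k) (v i)) := by
  obtain ⟨x, hx, hxk, hxv⟩ := hU.exists_pre hF W hk
  obtain ⟨z, hz, hzi, hzv⟩ := hU.exists_pre hF W hi
  have e1 : act (semiConj M ρ g) (v k) - v k = sg M ρ (act g x - x) := by
    rw [← hxv, act_semiConj', sg_sub]
  rw [e1, ← hzv, herm_sg, hzv]
  congr 1
  have h1 : hermForm n F q (act g x - x) (z - v i) = 0 :=
    Vf_orth hF W (a := k + 1 - (t + 1)) (b := i) (by omega) (hg _ _ hx) hzi
  have h2 : hermForm n F q (act g x - x) z = hermForm n F q (act g x - x) (v i) := by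
    have h3 := herm_add_right hF (act g x - x) (z - v i) (v i)
    rw [sub_add_cancel, h1, zero_add] at h3
    exact h3
  have h3 : hermForm n F q (act g (x - v k) - (x - v k)) (v i) = 0 := by
    have h4 := hg _ _ hxk
    exact h4 i (by omega)
  rw [h2]
  have e2 : act g x - x = (act g (x - v k) - (x - v k)) + (act g (v k) - v k) := by rw [act_sub]; abel
  rw [e2, herm_add_left, h3, zero_add]

/-- membership in the next level -/
theorem mem_Ug_succ (hF : Fintype.card F = q ^ 2) (W : Wb q v) {t : ℕ} {g : SU n F q} (hg : g ∈ Ug q v (t + 1))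
    (h : ∀ k < n, ∀ i < n, k + i = n + t → hermForm n F q (act g (v k) - v k) (v i) = 0) : g ∈ Ug q v (t + 2) := by
  refine mem_Ug_of hF W fun k hk i hi => ?_
  by_cases h1 : k + i = n + t
  · exact h k hk i (by omega) h1
  · exact Ug_coeff hg (W.mem (Nat.lt_succ_self k) hk) (by omega) (by omega)

/-- **`fix`, first half** -/
theorem fix_R (hF : Fintype.card F = q ^ 2) (W : Wb q v) {M : GU n F q} {ρ : F ≃+* F}
    (hU : Uni q v M ρ) (hρ : ∀ x : F, x ^ q = x → ρ x = x) {t : ℕ} {g : SU n F q} (hg : g ∈ Rg hF W t) :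
    semiConj M ρ g * g⁻¹ ∈ Ug q v (t + 2) := by
  have h1 := semiConj_mem_Ug hF W hU hg.1
  refine mem_Ug_succ hF W (mul_mem h1 (inv_mem hg.1)) fun k hk i hi hki => ?_
  have hx := W.mem (Nat.lt_succ_self k) hk
  rw [lead_mul h1 (inv_mem hg.1) hx (by omega) hi, lead_inv hg.1 hx (by omega) hi,
    lead_conj hF W hU hg.1 hk hi hki, hρ _ (hg.2 k hk i hi hki), add_neg_cancel]

/-- **`fix`, second half** -/
theorem fix_U (hF : Fintype.card F = q ^ 2) (W : Wb q v) {M : GU n F q} {ρ : F ≃+* F}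
    (hU : Uni q v M ρ) (hρ : ∀ x : F, x ^ q = x → ρ x = x) [CharP F 2] {t : ℕ} {g : SU n F q}
    (hg : g ∈ Ug q v (t + 1)) : semiConj M ρ g * g⁻¹ ∈ Rg hF W t := by
  have h1 := semiConj_mem_Ug hF W hU hg
  refine ⟨mul_mem h1 (inv_mem hg), fun k hk i hi hki => ?_⟩
  have hx := W.mem (Nat.lt_succ_self k) hk
  rw [lead_mul h1 (inv_mem hg) hx (by omega) hi, lead_inv hg hx (by omega) hi,
    lead_conj hF W hU hg hk hi hki, add_pow_q hF, neg_pow_q hF]
  generalize hermForm n F q (act g (v k) - v k) (v i) = a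
  have htwo : ∀ x : F, x + x = 0 := fun x => CharTwo.add_self_eq_zero x
  rcases ringAut_dich hF hρ with h3 | h3
  · rw [h3, add_neg_cancel, add_neg_cancel]
  · rw [h3, pow_q_pow_q hF]
    have h4 := htwo a
    have h5 := htwo (a ^ q)
    linear_combination h4 - h5

/-- the transvections at `v 0` are central in `T` -/
theorem inZ_transv (hF : Fintype.card F = q ^ 2) (W : Wb q v) (hn : 3 ≤ n) {T : Sylow 2 (PSU n F q)}
    (hT : (T : Subgroup (PSU n F q)) = (Ug q v 1).map (pr n F q)) {μ : F} (hμ : μ + μ ^ q = 0) :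
    InZ T (pr n F q (transv hF (v 0) (W.iso (by omega)) μ hμ)) := by
  have hfix : ∀ g ∈ Ug q v 1, act g (v 0) = v 0 := by
    intro g hg
    have h1 := hg 1 (v 0) (W.mem Nat.one_pos (by omega))
    rw [Nat.sub_self] at h1
    exact sub_eq_zero.1 (Vf_zero hF W h1)
  constructor
  · have h1 : pr n F q (transv hF (v 0) (W.iso (by omega)) μ hμ) ∈ (Ug q v 1).map (pr n F q) := by
      refine ⟨_, ?_, rfl⟩
      refine mem_Ug_of hF W fun k hk i hi => ?_
      rw [act_transv, add_sub_cancel_left, herm_smul_left, W.gram k hk 0 (by omega), W.gram 0 (by omega) i (by omega)]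
      by_cases h2 : k + 0 + 1 = n
      · rw [if_neg (by omega : ¬ (0 + i + 1 = n)), mul_zero]
      · rw [if_neg h2, mul_zero, zero_mul]
    rw [← hT] at h1
    exact h1
  · intro s hs
    have hs' : s ∈ (Ug q v 1).map (pr n F q) := by rw [← hT]; exact hs
    obtain ⟨g, hg, rfl⟩ := hs'
    rw [← map_mul, ← map_mul]
    congr 1
    apply ext_act
    intro x
    have h1 := hfix g hg
    rw [act_mul, act_mul, act_transv, act_transv, act_add, act_smul, h1]
    have h2 : hermForm n F q (act g x) (v 0) = hermForm n F q x (v 0) := by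
      conv_lhs => rw [← h1]
      rw [herm_act]
    rw [h2]

/-- `ρ` is trivial on `F_q` -/
theorem rho_of_fixZ [CharP F 2] (hF : Fintype.card F = q ^ 2) (W : Wb q v) (hn : 3 ≤ n) {T : Sylow 2 (PSU n F q)}
    (hT : (T : Subgroup (PSU n F q)) = (Ug q v 1).map (pr n F q)) {M : GU n F q} {ρ : F ≃+* F}
    (hU : Uni q v M ρ) (h : FixZ T (toAut M ρ)) : ∀ x : F, x ^ q = x → ρ x = x := by
  intro μ hμq
  have hμ : μ + μ ^ q = 0 := by rw [hμq]; exact CharTwo.add_self_eq_zero μ
  have h1 := h _ (inZ_transv hF W hn hT hμ)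
  rw [transv, fix_siegel_iff hF hn] at h1
  have h2 := h1 (v (n - 1))
  have h0 : sg M ρ (v 0) = v 0 := sub_eq_zero.1 (Vf_zero hF W (hU 0 (by omega)))
  have hv0 : v 0 ≠ 0 := by
    intro h0
    have h5 := W.gram 0 (by omega) (n - 1) (by omega)
    rw [h0, herm_zero_left, if_pos (by omega)] at h5
    exact zero_ne_one h5
  rw [sg_zero, h0, herm_zero_right hF, W.gram (n - 1) (by omega) 0 (by omega), if_pos (by omega), smul_zero, zero_add,
    zero_add, sub_zero, sub_zero, mul_one, mul_one] at h2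
  have h3 : (ρ μ - μ) • v 0 = 0 := by rw [sub_smul, h2, sub_self]
  exact sub_eq_zero.1 ((smul_eq_zero.1 h3).resolve_right hv0)

end Cfsg.Agent.OddHalf.D4.UnB

end

-- merged: Cfsg.Agent.OddHalf.D4.UnB.Gen
section

/-!
# ODD, D4, (1B): generation of the level filtration

`W : Wb q v` a Witt basis. Level `t`: the pairs `(i, k)` with `i + k + t + 2 = n`; the leading coefficient
`lc g i k = (g v_(n-1-i) - v_(n-1-i), v_(n-1-k))` of `g ∈ Ug (t + 1)`.

* `lc_swap` : `lc g k i = -(lc g i k)^q`; `lc_siegel`, `lc_transv`;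
* `Ln_le_Ug`, `Ln_le_Rg`, `transvG_le_Rg`, `Ln_sq`, `siegel_mem_Ug`, `siegel_mem_Rg`, `transv_mem_Ug`;
* **`gen_R`** : `Rg t` is generated by `Ug (t + 2)`, the lines `Ln i k 1` and the transvection groups of level `t`;
* **`gen_U`** : `Ug (t + 1)` is generated by `Rg t` and the lines `Ln i k c₀`, `c₀ ∉ F_q`.
-/

set_option autoImplicit false
set_option linter.unusedSectionVars false

namespace Cfsg.Agent.OddHalf.D4.UnB

open Cfsg Cfsg.Agent.LieClassical.HermBasic Cfsg.Agent.LieClassical.HermSiegel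
  Cfsg.Agent.LieClassical.HermGen Cfsg.Agent.LieClassical.SUBasic
  Cfsg.Agent.ClassicalGeometry.PSUAutBasic Cfsg.Agent.ClassicalGeometry.PSUAutUnip
  Cfsg.Agent.KFacts.Unit

variable {F : Type*} [Field F] [Fintype F] {q n : ℕ} {v : ℕ → Fin n → F}

/-- the leading coefficient at `(i, k)` -/
def lc (q : ℕ) (v : ℕ → Fin n → F) (g : SU n F q) (i k : ℕ) : F :=
  hermForm n F q (act g (v (n - 1 - i)) - v (n - 1 - i)) (v (n - 1 - k))

section Lead

variable (hF : Fintype.card F = q ^ 2) (W : Wb q v) {t : ℕ}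

include W

theorem lc_mul {g h : SU n F q} (hg : g ∈ Ug q v (t + 1)) (hh : h ∈ Ug q v (t + 1)) {i k : ℕ}
    (hik : i + k + t + 2 = n) : lc q v (g * h) i k = lc q v g i k + lc q v h i k :=
  lead_mul hg hh (W.mem (Nat.lt_succ_self _) (by omega)) (by omega) (by omega)

include hF

theorem lc_swap {g : SU n F q} (hg : g ∈ Ug q v (t + 1)) {i k : ℕ} (hik : i + k + t + 2 = n) :
    lc q v g k i = -(lc q v g i k) ^ q := by
  have h1 := lead_inv hg (W.mem (Nat.lt_succ_self (n - 1 - i)) (by omega)) (show (n - 1 - k) + (n - 1 - i + 1) ≤ n + t + 1 by omega)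
    (show n - 1 - k < n by omega)
  unfold lc
  rw [herm_sub_left, herm_act_left, ← herm_sub_right hF,
    herm_swap hF (act g⁻¹ (v (n - 1 - i)) - v (n - 1 - i)) (v (n - 1 - k)), h1, neg_pow_q hF]

/-- `Rg` in terms of the pairs `i ≤ k` -/
theorem mem_Rg_of {g : SU n F q} (hg : g ∈ Ug q v (t + 1))
    (h : ∀ i k, i ≤ k → i + k + t + 2 = n → lc q v g i k ^ q = lc q v g i k) : g ∈ Rg hF W t := by
  have h1 : ∀ i k, i + k + t + 2 = n → lc q v g i k ^ q = lc q v g i k := by
    intro i k hik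
    rcases le_total i k with h2 | h2
    · exact h i k h2 hik
    · have h3 := h k i h2 (by omega)
      rw [lc_swap hF W hg (show k + i + t + 2 = n by omega), neg_pow_q hF, h3, h3]
  refine ⟨hg, fun k hk i hi hki => ?_⟩
  have h2 := h1 (n - 1 - k) (n - 1 - i) (by omega)
  unfold lc at h2
  rwa [show n - 1 - (n - 1 - k) = k by omega, show n - 1 - (n - 1 - i) = i by omega] at h2

theorem Rg_le_pow {g : SU n F q} (hg : g ∈ Rg hF W t) {i k : ℕ} (hik : i + k + t + 2 = n) :
    lc q v g i k ^ q = lc q v g i k := hg.2 (n - 1 - i) (by omega) (n - 1 - k) (by omega) (by omega)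

/-- the next level -/
theorem mem_Ug_succ_of {g : SU n F q} (hg : g ∈ Ug q v (t + 1))
    (h : ∀ i k, i ≤ k → i + k + t + 2 = n → lc q v g i k = 0) : g ∈ Ug q v (t + 2) := by
  have h1 : ∀ i k, i + k + t + 2 = n → lc q v g i k = 0 := by
    intro i k hik
    rcases le_total i k with h2 | h2
    · exact h i k h2 hik
    · rw [lc_swap hF W hg (show k + i + t + 2 = n by omega), h k i h2 (by omega), zero_pow_q hF, neg_zero]
  refine mem_Ug_of hF W fun k hk i hi => ?_
  by_cases h2 : i + k = n + t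
  · have h3 := h1 (n - 1 - k) (n - 1 - i) (by omega)
    unfold lc at h3
    rwa [show n - 1 - (n - 1 - k) = k by omega, show n - 1 - (n - 1 - i) = i by omega] at h3
  · exact Ug_coeff hg (W.mem (Nat.lt_succ_self k) hk) (by omega) (by omega)

theorem lc_zero_of_succ {g : SU n F q} (hg : g ∈ Ug q v (t + 2)) {i k : ℕ} (hik : i + k + t + 2 = n) :
    lc q v g i k = 0 :=
  Ug_coeff hg (W.mem (Nat.lt_succ_self _) (by omega)) (by omega) (by omega)

/-! ### Siegel transformations -/

theorem siegel_mem_lev {i k : ℕ} (hik : i ≤ k) (h : i + k + t + 2 = n) {s μ : F}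
    (hs : IsSiegel q (v i) (s • v k) μ) : siegel hF (v i) (s • v k) μ hs ∈ Ug q v (t + 1) := by
  refine mem_Ug_of hF W fun a ha => ?_
  have e1 : act (siegel hF (v i) (s • v k) μ hs) (v a) - v a = hermForm n F q (v a) (v i) • (s • v k) +
      (μ * hermForm n F q (v a) (v i) - hermForm n F q (v a) (s • v k)) • v i := by
    rw [act_siegel]; abel
  rw [e1, herm_smul_right, W.gram a ha i (by omega), W.gram a ha k (by omega)]
  refine add_mem ?_ ?_
  · by_cases h1 : a + i + 1 = n
    · exact Submodule.smul_mem _ _ (Submodule.smul_mem _ _ (W.mem (by omega) (by omega)))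
    · rw [if_neg h1, zero_smul]
      exact zero_mem _
  · by_cases h1 : a + i + 1 = n
    · exact Submodule.smul_mem _ _ (W.mem (by omega) (by omega))
    · by_cases h2 : a + k + 1 = n
      · exact Submodule.smul_mem _ _ (W.mem (by omega) (by omega))
      · rw [if_neg h1, if_neg h2, mul_zero, mul_zero, sub_zero, zero_smul]
        exact zero_mem _

/-- leading coefficients of Siegel transformations -/
theorem lc_siegel {i k : ℕ} (hik : i < k) (h : i + k + t + 2 = n) {s μ : F} (hs : IsSiegel q (v i) (s • v k) μ)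
    {a b : ℕ} (hab : a + b + t + 2 = n) : lc q v (siegel hF (v i) (s • v k) μ hs) a b =
      (if a = i then s else 0) - (if a = k then s ^ q else 0) := by
  have e1 : act (siegel hF (v i) (s • v k) μ hs) (v (n - 1 - a)) - v (n - 1 - a) =
      hermForm n F q (v (n - 1 - a)) (v i) • (s • v k) +
      (μ * hermForm n F q (v (n - 1 - a)) (v i) - hermForm n F q (v (n - 1 - a)) (s • v k)) • v i := by
    rw [act_siegel]; abel
  unfold lc
  rw [e1, herm_add_left, herm_smul_left, herm_smul_left, herm_smul_left, herm_smul_right,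
    W.gram _ (by omega) i (by omega), W.gram _ (by omega) k (by omega), W.gram k (by omega) _ (by omega),
    W.gram i (by omega) _ (by omega)]
  by_cases h1 : a = i
  · rw [if_pos (by omega), if_neg (by omega : ¬ (n - 1 - a) + k + 1 = n), if_pos (by omega : k + (n - 1 - b) + 1 = n),
      if_neg (by omega : ¬ i + (n - 1 - b) + 1 = n), if_pos h1, if_neg (by omega : ¬ a = k)]
    ring
  · by_cases h2 : a = k
    · rw [if_neg (by omega : ¬ (n - 1 - a) + i + 1 = n), if_pos (by omega : (n - 1 - a) + k + 1 = n),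
        if_pos (by omega : i + (n - 1 - b) + 1 = n), if_neg h1, if_pos h2]
      ring
    · rw [if_neg (by omega : ¬ (n - 1 - a) + i + 1 = n), if_neg (by omega : ¬ (n - 1 - a) + k + 1 = n),
        if_neg h1, if_neg h2]
      ring

theorem lc_transv {i : ℕ} (hi : 2 * i + 1 < n) (h : 2 * i + t + 2 = n) {μ : F} (hμ : μ + μ ^ q = 0)
    {a b : ℕ} (hab : a + b + t + 2 = n) : lc q v (transv hF (v i) (W.iso hi) μ hμ) a b =
      (if a = i then μ else 0) := by
  have e1 : act (transv hF (v i) (W.iso hi) μ hμ) (v (n - 1 - a)) - v (n - 1 - a) =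
      (μ * hermForm n F q (v (n - 1 - a)) (v i)) • v i := by
    rw [act_transv]; abel
  unfold lc
  rw [e1, herm_smul_left, W.gram _ (by omega) i (by omega), W.gram i (by omega) _ (by omega)]
  by_cases h1 : a = i
  · rw [if_pos (by omega), if_pos (by omega : i + (n - 1 - b) + 1 = n), if_pos h1]
    ring
  · rw [if_neg (by omega : ¬ (n - 1 - a) + i + 1 = n), if_neg h1]
    ring

theorem transv_mem_lev {i : ℕ} (hi : 2 * i + 1 < n) (h : 2 * i + t + 2 ≤ n) {μ : F} (hμ : μ + μ ^ q = 0) :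
    transv hF (v i) (W.iso hi) μ hμ ∈ Ug q v (t + 1) := by
  refine mem_Ug_of hF W fun a ha => ?_
  have e1 : act (transv hF (v i) (W.iso hi) μ hμ) (v a) - v a = (μ * hermForm n F q (v a) (v i)) • v i := by
    rw [act_transv]; abel
  rw [e1, W.gram a ha i (by omega)]
  by_cases h1 : a + i + 1 = n
  · exact Submodule.smul_mem _ _ (W.mem (by omega) (by omega))
  · rw [if_neg h1, mul_zero, zero_smul]
    exact zero_mem _

omit W in
theorem exists_mu (c : F) : ∃ μ : F, μ + μ ^ q + c * c ^ q = 0 := by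
  obtain ⟨x, hx⟩ := exists_trace_eq hF (c := -(c * c ^ q)) (by rw [neg_pow_q hF, norm_pow_q hF])
  exact ⟨x, by rw [hx]; ring⟩

/-- an element of the line -/
theorem exists_Ln {i k : ℕ} (hik : i < k ∧ i + k + 1 < n) (c : F) {s : F} (hs : s ^ q = s) :
    ∃ (μ : F) (h : IsSiegel q (v i) ((s * c) • v k) μ), siegel hF (v i) ((s * c) • v k) μ h ∈ Ln hF W hik c := by
  by_cases hk : 2 * k + 1 = n
  · obtain ⟨μ, hμ⟩ := exists_mu hF (s * c)
    have h1 := isSiegel_line hF W hik (c := s * c) (μ := μ) (by rw [if_pos hk]; exact hμ)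
    exact ⟨μ, h1, s, μ, h1, hs, fun h => absurd hk h, rfl⟩
  · have h1 := isSiegel_line hF W hik (c := s * c) (μ := 0) (by rw [if_neg hk, zero_pow_q hF]; ring)
    exact ⟨0, h1, s, 0, h1, hs, fun _ => rfl, rfl⟩

/-! ### The statements on lines -/

theorem Ln_le_Ug {i k : ℕ} (hik : i < k ∧ i + k + 1 < n) (h : i + k + t + 2 = n) (c : F) :
    Ln hF W hik c ≤ Ug q v (t + 1) := by
  rintro _ ⟨s, μ, hs, -, -, rfl⟩
  exact siegel_mem_lev hF W hik.1.le h hs

theorem siegel_mem_Ug {i k : ℕ} (hik : i < k ∧ i + k + 1 < n) (h : i + k + t + 2 = n) {s μ : F}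
    (hs : IsSiegel q (v i) (s • v k) μ) (hμ : 2 * k + 1 ≠ n → μ = 0) :
    siegel hF (v i) (s • v k) μ hs ∈ Ug q v (t + 2) ↔ s = 0 := by
  constructor
  · intro h1
    have h2 := lc_zero_of_succ hF W h1 h
    rwa [lc_siegel hF W hik.1 h hs h, if_pos rfl, if_neg (by omega), sub_zero] at h2
  · rintro rfl
    have hi : 2 * i + 1 < n := by omega
    by_cases hk : 2 * k + 1 = n
    · have h0 := hs.tr
      rw [zero_smul, herm_zero_left, add_zero] at h0
      have e1 : siegel hF (v i) ((0 : F) • v k) μ hs = transv hF (v i) (W.iso hi) μ h0 :=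
        siegel_congr hF _ _ rfl (zero_smul _ _) rfl
      rw [e1]
      exact transv_mem_lev hF W hi (t := t + 1) (by omega) h0
    · have h0 : μ = 0 := hμ hk
      subst h0
      have e1 : siegel hF (v i) ((0 : F) • v k) 0 hs = 1 := by
        rw [siegel_congr hF _ (IsSiegel.zero hF (W.iso hi)) rfl (zero_smul _ _) rfl, siegel_zero]
      rw [e1]
      exact one_mem _

theorem siegel_mem_Rg {i k : ℕ} (hik : i < k ∧ i + k + 1 < n) (h : i + k + t + 2 = n) {s μ : F}
    (hs : IsSiegel q (v i) (s • v k) μ) :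
    siegel hF (v i) (s • v k) μ hs ∈ Rg hF W t ↔ s ^ q = s := by
  constructor
  · intro h1
    have h2 := Rg_le_pow hF W h1 h
    rwa [lc_siegel hF W hik.1 h hs h, if_pos rfl, if_neg (by omega), sub_zero] at h2
  · intro h1
    refine mem_Rg_of hF W (siegel_mem_lev hF W hik.1.le h hs) fun a b _ hab' => ?_
    rw [lc_siegel hF W hik.1 h hs hab']
    by_cases h2 : a = i
    · rw [if_pos h2, if_neg (by omega), sub_zero, h1]
    · by_cases h3 : a = k
      · rw [if_neg h2, if_pos h3, zero_sub, neg_pow_q hF, h1, h1]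
      · rw [if_neg h2, if_neg h3, sub_zero, zero_pow_q hF]

theorem Ln_le_Rg {i k : ℕ} (hik : i < k ∧ i + k + 1 < n) (h : i + k + t + 2 = n) {c : F} (hc : c ^ q = c) :
    Ln hF W hik c ≤ Rg hF W t := by
  rintro _ ⟨s, μ, hs, hs', -, rfl⟩
  exact (siegel_mem_Rg hF W hik h hs).2 (by rw [mul_pow, hs', hc])

theorem transv_mem_Ug {i : ℕ} (hi : 2 * i + 1 < n) (h : 2 * i + t + 2 = n) {μ : F} (hμ : μ + μ ^ q = 0) :
    transv hF (v i) (W.iso hi) μ hμ ∈ Ug q v (t + 2) ↔ μ = 0 := by
  constructor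
  · intro h1
    have h2 := lc_zero_of_succ hF W h1 (show i + i + t + 2 = n by omega)
    rwa [lc_transv hF W hi h hμ (by omega), if_pos rfl] at h2
  · rintro rfl
    rw [transv_zero]
    exact one_mem _

section Two

variable [CharP F 2]

theorem Ln_sq {i k : ℕ} (hik : i < k ∧ i + k + 1 < n) (h : i + k + t + 2 = n) {c : F} {x : SU n F q}
    (hx : x ∈ Ln hF W hik c) : x * x ∈ Ug q v (t + 2) :=
  Ug_anti (by omega) (Ug_sq (Ln_le_Ug hF W hik h c hx))

theorem transvG_le_Rg {i : ℕ} (hi : 2 * i + 1 < n) (h : 2 * i + t + 2 = n) :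
    transvG hF (v i) (W.iso hi) ≤ Rg hF W t := by
  rintro _ ⟨μ, hμ, rfl⟩
  refine mem_Rg_of hF W (transv_mem_lev hF W hi h.le hμ) fun a b _ hab => ?_
  rw [lc_transv hF W hi h hμ hab]
  by_cases h2 : a = i
  · rw [if_pos h2]
    have h3 : μ ^ q + μ = μ + μ := by rw [add_comm, hμ, CharTwo.add_self_eq_zero]
    exact add_right_cancel h3
  · rw [if_neg h2, zero_pow_q hF]

/-- **Generation, real part.** -/
theorem gen_R {g : SU n F q} (hg : g ∈ Rg hF W t) : g ∈ Subgroup.closure
    ({x | ∃ (i k : ℕ) (hik : i < k ∧ i + k + 1 < n), i + k + t + 2 = n ∧ x ∈ Ln hF W hik 1} ∪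
      {x | ∃ (i : ℕ) (hi : 2 * i + 1 < n), 2 * i + t + 2 = n ∧ x ∈ transvG hF (v i) (W.iso hi)} ∪
      (Ug q v (t + 2) : Set (SU n F q))) := by
  set C := Subgroup.closure
    ({x | ∃ (i k : ℕ) (hik : i < k ∧ i + k + 1 < n), i + k + t + 2 = n ∧ x ∈ Ln hF W hik 1} ∪
      {x | ∃ (i : ℕ) (hi : 2 * i + 1 < n), 2 * i + t + 2 = n ∧ x ∈ transvG hF (v i) (W.iso hi)} ∪
      (Ug q v (t + 2) : Set (SU n F q))) with hC
  have key : ∀ m : ℕ, ∀ g ∈ Rg hF W t, (∀ i k, i ≤ k → i + k + t + 2 = n → m ≤ i → lc q v g i k = 0) → g ∈ C := by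
    intro m
    induction m with
    | zero =>
      intro g hg h
      exact Subgroup.subset_closure (Or.inr (mem_Ug_succ_of hF W hg.1 fun i k hik hn => h i k hik hn (Nat.zero_le i)))
    | succ m ih =>
      intro g hg h
      -- an element `x` of `C ∩ Rg t` with the right leading coefficients
      have hx : ∀ x ∈ C, x ∈ Rg hF W t → (∀ i k, i ≤ k → i + k + t + 2 = n → m ≤ i → lc q v (g * x) i k = 0) →
          g ∈ C := by
        intro x hxC hxR h1
        have h2 := mul_mem (ih (g * x) (mul_mem hg hxR) h1) (inv_mem hxC)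
        rwa [mul_inv_cancel_right] at h2
      by_cases hm : 2 * m + t + 2 ≤ n
      · obtain ⟨k, hk⟩ : ∃ k, m + k + t + 2 = n := ⟨n - m - t - 2, by omega⟩
        rcases Nat.lt_or_ge m k with hmk | hmk
        · -- a line
          have hik : m < k ∧ m + k + 1 < n := ⟨hmk, by omega⟩
          have ha := Rg_le_pow hF W hg hk
          obtain ⟨μ, hs, hsL⟩ := exists_Ln hF W hik (1 : F) (s := -lc q v g m k) (by rw [neg_pow_q hF, ha])
          refine hx _ (Subgroup.subset_closure (Or.inl (Or.inl ⟨m, k, hik, hk, hsL⟩)))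
            (Ln_le_Rg hF W hik hk (one_pow q) hsL) fun i l hil hn hmi => ?_
          rw [lc_mul W hg.1 (Ln_le_Ug hF W hik hk 1 hsL) hn, lc_siegel hF W hmk hk hs hn]
          rcases hmi.lt_or_eq with h1 | h1
          · rw [h i l hil hn h1, if_neg (by omega), if_neg (by omega)]
            ring
          · have h2 : l = k := by omega
            subst h1 h2
            rw [if_pos rfl, if_neg (by omega)]
            ring
        · -- a transvection
          have hkm : k = m := by omega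
          subst hkm
          have hi : 2 * k + 1 < n := by omega
          have hsw := lc_swap hF W hg.1 hk
          have hμ : -lc q v g k k + (-lc q v g k k) ^ q = 0 := by
            rw [neg_pow_q hF]
            have h3 := hsw
            linear_combination -h3
          have hT : transv hF (v k) (W.iso hi) (-lc q v g k k) hμ ∈ transvG hF (v k) (W.iso hi) := ⟨_, hμ, rfl⟩
          have h2k : 2 * k + t + 2 = n := by omega
          refine hx _ (Subgroup.subset_closure (Or.inl (Or.inr ⟨k, hi, h2k, hT⟩)))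
            (transvG_le_Rg hF W hi h2k hT) fun i l hil hn hmi => ?_
          rw [lc_mul W hg.1 (transvG_le_Rg hF W hi h2k hT).1 hn, lc_transv hF W hi h2k hμ hn]
          rcases hmi.lt_or_eq with h1 | h1
          · rw [h i l hil hn h1, if_neg (by omega), add_zero]
          · have h2 : l = k := by omega
            subst h1
            rw [h2, if_pos rfl]
            ring
      · -- no pair
        refine ih g hg fun i k hik hn hmi => ?_
        rcases hmi.lt_or_eq with h1 | h1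
        · exact h i k hik hn h1
        · omega
  exact key n g hg fun i k _ hn hni => by omega

/-- **Generation, complement.** -/
theorem gen_U {c₀ : F} (hc₀ : c₀ ^ q ≠ c₀) {g : SU n F q} (hg : g ∈ Ug q v (t + 1)) : g ∈ Subgroup.closure
    ({x | ∃ (i k : ℕ) (hik : i < k ∧ i + k + 1 < n), i + k + t + 2 = n ∧ x ∈ Ln hF W hik c₀} ∪
      (Rg hF W t : Set (SU n F q))) := by
  set C := Subgroup.closure
    ({x | ∃ (i k : ℕ) (hik : i < k ∧ i + k + 1 < n), i + k + t + 2 = n ∧ x ∈ Ln hF W hik c₀} ∪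
      (Rg hF W t : Set (SU n F q))) with hC
  have key : ∀ m : ℕ, ∀ g ∈ Ug q v (t + 1),
      (∀ i k, i < k → i + k + t + 2 = n → m ≤ i → lc q v g i k ^ q = lc q v g i k) → g ∈ C := by
    intro m
    induction m with
    | zero =>
      intro g hg h
      refine Subgroup.subset_closure (Or.inr (mem_Rg_of hF W hg fun i k hik hn => ?_))
      rcases hik.lt_or_eq with h1 | rfl
      · exact h i k h1 hn (Nat.zero_le i)
      · have h2 := lc_swap hF W hg hn
        have h3 : lc q v g i i ^ q + lc q v g i i = lc q v g i i + lc q v g i i := by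
          rw [CharTwo.add_self_eq_zero]
          linear_combination h2
        exact add_right_cancel h3
    | succ m ih =>
      intro g hg h
      by_cases hm : 2 * m + t + 3 ≤ n
      · obtain ⟨k, hk⟩ : ∃ k, m + k + t + 2 = n := ⟨n - m - t - 2, by omega⟩
        have hmk : m < k := by omega
        have hik : m < k ∧ m + k + 1 < n := ⟨hmk, by omega⟩
        have hcc : c₀ ^ q - c₀ ≠ 0 := sub_ne_zero.2 hc₀
        obtain ⟨a, ha⟩ : ∃ a, a = lc q v g m k := ⟨_, rfl⟩
        obtain ⟨s, hs⟩ : ∃ s, s = -((a ^ q - a) / (c₀ ^ q - c₀)) := ⟨_, rfl⟩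
        have hsc : s * (c₀ ^ q - c₀) = -(a ^ q - a) := by
          rw [hs, neg_mul, div_mul_cancel₀ _ hcc]
        have hsq : s ^ q = s := by
          have h1 : (a ^ q - a) ^ q = -(a ^ q - a) := by rw [sub_pow_q hF, pow_q_pow_q hF]; ring
          have h2 : (c₀ ^ q - c₀) ^ q = -(c₀ ^ q - c₀) := by rw [sub_pow_q hF, pow_q_pow_q hF]; ring
          rw [hs, neg_pow_q hF, div_pow, h1, h2, neg_div_neg_eq]
        obtain ⟨μ, hs', hsL⟩ := exists_Ln hF W hik c₀ hsq
        have h1 : g * siegel hF (v m) ((s * c₀) • v k) μ hs' ∈ C := by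
          refine ih _ (mul_mem hg (Ln_le_Ug hF W hik hk c₀ hsL)) fun i l hil hn hmi => ?_
          rw [lc_mul W hg (Ln_le_Ug hF W hik hk c₀ hsL) hn, lc_siegel hF W hmk hk hs' hn]
          rcases hmi.lt_or_eq with h1 | h1
          · rw [if_neg (by omega), if_neg (by omega), sub_zero, add_zero]
            exact h i l hil hn h1
          · have h2 : l = k := by omega
            subst h1 h2
            rw [if_pos rfl, if_neg (by omega), sub_zero, ← ha, add_pow_q hF, mul_pow, hsq]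
            linear_combination hsc
        have h2 := mul_mem h1 (inv_mem (Subgroup.subset_closure (Or.inl ⟨m, k, hik, hk, hsL⟩) :
          siegel hF (v m) ((s * c₀) • v k) μ hs' ∈ C))
        rwa [mul_inv_cancel_right] at h2
      · refine ih g hg fun i k hik hn hmi => ?_
        rcases hmi.lt_or_eq with h1 | h1
        · exact h i k hik hn h1
        · omega
  exact key n g hg fun i k _ hn hni => by omega

end Two

end Lead

end Cfsg.Agent.OddHalf.D4.UnB

end

-- merged: Cfsg.Agent.OddHalf.D4.UnB.Filt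
section

/-!
# ODD, D4, (1B): the K-fact (k3) for `PSU n F q`, `q ≥ 4` even

`filt`: the filtration `Ug 1 ≥ Rg 0 ≥ Ug 2 ≥ Rg 1 ≥ …` with the lines `Ln c₀`, `Ln 1` and the transvection groups.
-/

set_option autoImplicit false

namespace Cfsg.Agent.OddHalf.D4.UnB

open Cfsg Cfsg.Agent.LieClassical.HermBasic Cfsg.Agent.LieClassical.HermSiegel
  Cfsg.Agent.LieClassical.HermGen Cfsg.Agent.LieClassical.SUBasic
  Cfsg.Agent.ClassicalGeometry.PSUAutBasic Cfsg.Agent.ClassicalGeometry.PSUAutUnip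
  Cfsg.Agent.ClassicalGeometry.PSUAutSylow Cfsg.Agent.ClassicalGeometry.PSUAutExt
  Cfsg.Agent.KFacts.Unit Cfsg.Agent.OddHalf.D4.Free

open Cfsg.Agent.ClassicalGeometry.PSUAutCount (gm semiConj toAut)

variable {F : Type*} [Field F] [Fintype F] {q n : ℕ} {v : ℕ → Fin n → F}

/-- an element of `F_q` different from `0`, `1` -/
theorem exists_t (hF : Fintype.card F = q ^ 2) (hq : 3 ≤ q) : ∃ t : F, t ^ q = t ∧ t ≠ 0 ∧ t ≠ 1 := by
  classical
  obtain ⟨g, hg⟩ := IsCyclic.exists_generator (α := Fˣ)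
  have ho : orderOf g = q ^ 2 - 1 := by
    rw [orderOf_eq_card_of_forall_mem_zpowers hg, Nat.card_eq_fintype_card, Fintype.card_units, hF]
  have h1 : (q + 1) * (q - 1) = q ^ 2 - 1 := by
    obtain ⟨r, rfl⟩ : ∃ r, q = r + 1 := ⟨q - 1, by omega⟩
    rw [Nat.add_sub_cancel, Nat.pow_two]
    have : (r + 1) * (r + 1) = (r + 1 + 1) * r + 1 := by ring
    omega
  have h2 : (g ^ (q + 1)) ^ (q - 1) = 1 := by rw [← pow_mul, h1, ← ho, pow_orderOf_eq_one]
  refine ⟨((g ^ (q + 1) : Fˣ) : F), ?_, Units.ne_zero _, ?_⟩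
  · rw [← Units.val_pow_eq_pow_val]
    congr 1
    have h3 : q = q - 1 + 1 := by omega
    conv_lhs => rw [h3]
    rw [pow_succ]
    rw [show q - 1 + 1 = q by omega, h2, one_mul]
  · intro h3
    have h4 : g ^ (q + 1) = 1 := Units.ext h3
    have h5 := orderOf_dvd_of_pow_eq_one h4
    rw [ho, ← h1] at h5
    have h6 := Nat.le_of_dvd (by omega) h5
    have h7 : (q + 1) * 2 ≤ (q + 1) * (q - 1) := Nat.mul_le_mul_left _ (by omega)
    omega

/-- an element outside `F_q` -/
theorem exists_c [CharP F 2] (hF : Fintype.card F = q ^ 2) : ∃ c : F, c ^ q ≠ c := by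
  obtain ⟨x, hx⟩ := exists_trace_ne hF
  refine ⟨x, fun h => hx ?_⟩
  rw [h]
  exact CharTwo.add_self_eq_zero x

/-- `pr` on subgroups of `Ug 1` -/
theorem pr_mem_iff [CharP F 2] (hF : Fintype.card F = q ^ 2) (hn : 3 ≤ n) (W : Wb q v) {H : Subgroup (SU n F q)}
    (hH : H ≤ Ug q v 1) {g : SU n F q} (hg : g ∈ Ug q v 1) : pr n F q g ∈ H.map (pr n F q) ↔ g ∈ H := by
  have : Fact (Nat.Prime 2) := ⟨Nat.prime_two⟩
  constructor
  · rintro ⟨h, hh, hgh⟩
    obtain ⟨k, hk⟩ := isPGroup_Ug hF W ⟨h, hH hh⟩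
    obtain ⟨l, hl⟩ := isPGroup_Ug hF W ⟨g, hg⟩
    have hk' : h ^ 2 ^ k = 1 := congrArg Subtype.val hk
    have hl' : g ^ 2 ^ l = 1 := congrArg Subtype.val hl
    rw [← eq_of_pr_eq hF hn hk' hl' hgh]
    exact hh
  · exact fun h => ⟨g, h, rfl⟩

/-- existence of elements of a line -/
theorem exists_isSiegel [CharP F 2] (hF : Fintype.card F = q ^ 2) (W : Wb q v) {i k : ℕ}
    (hik : i < k ∧ i + k + 1 < n) (c : F) :
    ∃ μ, IsSiegel q (v i) (c • v k) μ ∧ (2 * k + 1 ≠ n → μ = 0) := by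
  by_cases hk : 2 * k + 1 = n
  · obtain ⟨μ, hμ⟩ := exists_trace_eq hF (c := -(c * c ^ q)) (by rw [neg_pow_q hF, norm_pow_q hF])
    exact ⟨μ, isSiegel_line hF W hik (by rw [if_pos hk, hμ]; ring), fun h => absurd hk h⟩
  · exact ⟨0, isSiegel_line hF W hik (by rw [if_neg hk, zero_pow_q hF]; ring), fun _ => rfl⟩

/-- the leading coefficient of a line element -/
theorem lead_siegel (hF : Fintype.card F = q ^ 2) (W : Wb q v) {i k : ℕ} (hik : i < k ∧ i + k + 1 < n) {s μ : F}
    (hs : IsSiegel q (v i) (s • v k) μ) :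
    hermForm n F q (act (siegel hF (v i) (s • v k) μ hs) (v (n - 1 - i)) - v (n - 1 - i)) (v (n - 1 - k)) = s := by
  rw [act_siegel, add_assoc, add_sub_cancel_left, herm_add_left, herm_smul_left, herm_smul_left, herm_smul_left,
    W.gram (n - 1 - i) (by omega) i (by omega), W.gram k (by omega) (n - 1 - k) (by omega),
    W.gram i (by omega) (n - 1 - k) (by omega), if_pos (by omega), if_pos (by omega), if_neg (by omega)]
  ring

/-- pairs in a line -/
theorem pair_Ln [CharP F 2] (hF : Fintype.card F = q ^ 2) (hq : 3 ≤ q) (W : Wb q v) {i k t : ℕ}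
    (hik : i < k ∧ i + k + 1 < n) (h : i + k + t + 2 = n) {c : F} {D : Subgroup (SU n F q)}
    (hD : ∀ g ∈ D, g ∈ Ug q v (t + 1) → ∀ s : F, s ^ q = s →
      hermForm n F q (act g (v (n - 1 - i)) - v (n - 1 - i)) (v (n - 1 - k)) = s * c → s = 0) :
    ∃ a ∈ Ln hF W hik c, ∃ b ∈ Ln hF W hik c, a ∉ D ∧ b ∉ D ∧ a⁻¹ * b ∉ D := by
  obtain ⟨t₀, ht₀, h0, h1⟩ := exists_t (F := F) hF hq
  obtain ⟨μ, hs, hμ⟩ := exists_isSiegel hF W hik ((1 : F) * c)
  obtain ⟨ν, hs', hν⟩ := exists_isSiegel hF W hik (t₀ * c)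
  have ha : siegel hF (v i) (((1 : F) * c) • v k) μ hs ∈ Ln hF W hik c := ⟨1, μ, hs, one_pow _, hμ, rfl⟩
  have hb : siegel hF (v i) ((t₀ * c) • v k) ν hs' ∈ Ln hF W hik c := ⟨t₀, ν, hs', ht₀, hν, rfl⟩
  have haU := Ln_le_Ug hF W hik h c ha
  have hbU := Ln_le_Ug hF W hik h c hb
  have hx := W.mem (Nat.lt_succ_self (n - 1 - i)) (by omega)
  refine ⟨_, ha, _, hb, ?_, ?_, ?_⟩
  · intro h2
    exact one_ne_zero (hD _ h2 haU 1 (one_pow _) (lead_siegel hF W hik hs))
  · intro h2
    exact h0 (hD _ h2 hbU t₀ ht₀ (lead_siegel hF W hik hs'))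
  · intro h2
    have h3 := hD _ h2 (mul_mem (inv_mem haU) hbU) (t₀ - 1) (by rw [sub_pow_q hF, ht₀, one_pow]) (by
      rw [lead_mul (inv_mem haU) hbU hx (by omega) (by omega), lead_inv haU hx (by omega) (by omega),
        lead_siegel hF W hik hs, lead_siegel hF W hik hs']
      ring)
    exact h1 (sub_eq_zero.1 h3)

/-- the filtration -/
def V0 (hF : Fintype.card F = q ^ 2) (W : Wb q v) (j : ℕ) : Subgroup (SU n F q) :=
  if j % 2 = 0 then Ug q v (j / 2 + 1) else Rg hF W (j / 2)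

/-- the lines -/
def L0 (hF : Fintype.card F = q ^ 2) (W : Wb q v) (c₀ : F) (j : ℕ) : Set (Subgroup (SU n F q)) :=
  {l | (j % 2 = 0 ∧ ∃ (i k : ℕ) (hik : i < k ∧ i + k + 1 < n), i + k + j / 2 + 2 = n ∧ l = Ln hF W hik c₀) ∨
    (j % 2 = 1 ∧ ∃ (i k : ℕ) (hik : i < k ∧ i + k + 1 < n), i + k + j / 2 + 2 = n ∧ l = Ln hF W hik 1) ∨
    (j % 2 = 1 ∧ ∃ (i : ℕ) (hi : 2 * i + 1 < n), 2 * i + j / 2 + 2 = n ∧ l = transvG hF (v i) (W.iso hi))}

theorem V0_even {hF : Fintype.card F = q ^ 2} {W : Wb q v} {j : ℕ} (h : j % 2 = 0) :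
    V0 hF W j = Ug q v (j / 2 + 1) := if_pos h

theorem V0_odd {hF : Fintype.card F = q ^ 2} {W : Wb q v} {j : ℕ} (h : j % 2 = 1) :
    V0 hF W j = Rg hF W (j / 2) := if_neg (by omega)

theorem V0_even_succ {hF : Fintype.card F = q ^ 2} {W : Wb q v} {j : ℕ} (h : j % 2 = 0) :
    V0 hF W (j + 1) = Rg hF W (j / 2) := by
  rw [V0_odd (by omega), show (j + 1) / 2 = j / 2 by omega]

theorem V0_odd_succ {hF : Fintype.card F = q ^ 2} {W : Wb q v} {j : ℕ} (h : j % 2 = 1) :
    V0 hF W (j + 1) = Ug q v (j / 2 + 2) := by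
  rw [V0_even (by omega), show (j + 1) / 2 + 1 = j / 2 + 2 by omega]

theorem V0_le (hF : Fintype.card F = q ^ 2) (W : Wb q v) (j : ℕ) : V0 hF W j ≤ Ug q v 1 := by
  rcases Nat.mod_two_eq_zero_or_one j with h | h
  · rw [V0_even h]
    exact Ug_anti (by omega)
  · rw [V0_odd h]
    exact Rg_le.trans (Ug_anti (by omega))

theorem V0_anti (hF : Fintype.card F = q ^ 2) (W : Wb q v) (j : ℕ) : V0 hF W (j + 1) ≤ V0 hF W j := by
  rcases Nat.mod_two_eq_zero_or_one j with h | h
  · rw [V0_even_succ h, V0_even h]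
    exact Rg_le
  · rw [V0_odd_succ h, V0_odd h]
    exact Ug_le_Rg

theorem L0_le [CharP F 2] (hF : Fintype.card F = q ^ 2) (W : Wb q v) (c₀ : F) {j : ℕ} {l : Subgroup (SU n F q)}
    (hl : l ∈ L0 hF W c₀ j) : l ≤ V0 hF W j := by
  rcases hl with ⟨h, i, k, hik, h1, rfl⟩ | ⟨h, i, k, hik, h1, rfl⟩ | ⟨h, i, hi, h1, rfl⟩
  · rw [V0_even h]
    exact Ln_le_Ug hF W hik h1 c₀
  · rw [V0_odd h]
    exact Ln_le_Rg hF W hik h1 (one_pow q)
  · rw [V0_odd h]
    exact transvG_le_Rg hF W hi h1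

theorem gen0 [CharP F 2] (hF : Fintype.card F = q ^ 2) (W : Wb q v) {c₀ : F} (hc₀ : c₀ ^ q ≠ c₀) {j : ℕ}
    {u : SU n F q} (hu : u ∈ V0 hF W j) :
    u ∈ Subgroup.closure ({x | ∃ l ∈ L0 hF W c₀ j, x ∈ l} ∪ (V0 hF W (j + 1) : Set (SU n F q))) := by
  rcases Nat.mod_two_eq_zero_or_one j with h | h
  · rw [V0_even h] at hu
    rw [V0_even_succ h]
    refine Subgroup.closure_mono ?_ (gen_U hF W hc₀ hu)
    rintro x (⟨i, k, hik, h1, hx⟩ | hx)
    · exact Or.inl ⟨_, Or.inl ⟨h, i, k, hik, h1, rfl⟩, hx⟩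
    · exact Or.inr hx
  · rw [V0_odd h] at hu
    rw [V0_odd_succ h]
    refine Subgroup.closure_mono ?_ (gen_R hF W hu)
    rintro x ((⟨i, k, hik, h1, hx⟩ | ⟨i, hi, h1, hx⟩) | hx)
    · exact Or.inl ⟨_, Or.inr (Or.inl ⟨h, i, k, hik, h1, rfl⟩), hx⟩
    · exact Or.inl ⟨_, Or.inr (Or.inr ⟨h, i, hi, h1, rfl⟩), hx⟩
    · exact Or.inr hx

theorem sq0 [CharP F 2] (hF : Fintype.card F = q ^ 2) (W : Wb q v) {c₀ : F} {j : ℕ} {l : Subgroup (SU n F q)}
    (hl : l ∈ L0 hF W c₀ j) {x : SU n F q} (hx : x ∈ l) : x * x ∈ V0 hF W (j + 1) := by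
  have h1 := L0_le hF W c₀ hl hx
  rcases Nat.mod_two_eq_zero_or_one j with h | h
  · rw [V0_even h] at h1
    rw [V0_even_succ h]
    exact Ug_le_Rg (Ug_anti (by omega) (Ug_sq h1))
  · rw [V0_odd h] at h1
    rw [V0_odd_succ h]
    exact Ug_anti (by omega) (Ug_sq (Rg_le h1))

omit [Fintype F] in
theorem one_tr' [CharP F 2] : (1 : F) + 1 ^ q = 0 := by
  rw [one_pow]
  exact CharTwo.add_self_eq_zero 1

theorem lead_transv (hF : Fintype.card F = q ^ 2) (W : Wb q v) {i : ℕ} (hi : 2 * i + 1 < n) {μ : F}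
    (hμ : μ + μ ^ q = 0) : hermForm n F q (act (transv hF (v i) (W.iso hi) μ hμ) (v (n - 1 - i)) - v (n - 1 - i))
      (v (n - 1 - i)) = μ := by
  rw [act_transv, add_sub_cancel_left, herm_smul_left, W.gram (n - 1 - i) (by omega) i (by omega),
    W.gram i (by omega) (n - 1 - i) (by omega), if_pos (by omega), if_pos (by omega), mul_one, mul_one]

theorem pair0 [CharP F 2] (hF : Fintype.card F = q ^ 2) (hq : 3 ≤ q) (W : Wb q v) {c₀ : F} (hc₀ : c₀ ^ q ≠ c₀) {j : ℕ}
    {l : Subgroup (SU n F q)} (hl : l ∈ L0 hF W c₀ j) :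
    ∃ a ∈ l, ∃ b ∈ l, a ∉ V0 hF W (j + 1) ∧ b ∉ V0 hF W (j + 1) ∧ a⁻¹ * b ∉ V0 hF W (j + 1) := by
  rcases hl with ⟨h, i, k, hik, h1, rfl⟩ | ⟨h, i, k, hik, h1, rfl⟩ | ⟨h, i, hi, h1, rfl⟩
  · rw [V0_even_succ h]
    refine pair_Ln hF hq W hik h1 fun g hg _ s hs hlead => ?_
    have h2 := hg.2 (n - 1 - i) (by omega) (n - 1 - k) (by omega) (by omega)
    rw [hlead, mul_pow, hs] at h2
    by_contra hs0
    exact hc₀ (mul_left_cancel₀ hs0 h2)
  · rw [V0_odd_succ h]
    refine pair_Ln hF hq W hik h1 fun g hg _ s hs hlead => ?_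
    rw [mul_one] at hlead
    rw [← hlead]
    exact Ug_coeff hg (W.mem (Nat.lt_succ_self (n - 1 - i)) (by omega)) (by omega) (by omega)
  · rw [V0_odd_succ h]
    obtain ⟨t₀, ht₀, h0, h1'⟩ := exists_t (F := F) hF hq
    have ht0' : t₀ + t₀ ^ q = 0 := by rw [ht₀]; exact CharTwo.add_self_eq_zero _
    have ha : transv hF (v i) (W.iso hi) 1 one_tr' ∈ transvG hF (v i) (W.iso hi) := ⟨1, one_tr', rfl⟩
    have hb : transv hF (v i) (W.iso hi) t₀ ht0' ∈ transvG hF (v i) (W.iso hi) := ⟨t₀, ht0', rfl⟩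
    have haU := Rg_le (transvG_le_Rg hF W hi h1 ha)
    have hbU := Rg_le (transvG_le_Rg hF W hi h1 hb)
    have hx := W.mem (Nat.lt_succ_self (n - 1 - i)) (by omega)
    have hz : ∀ g ∈ Ug q v (j / 2 + 2), hermForm n F q (act g (v (n - 1 - i)) - v (n - 1 - i)) (v (n - 1 - i)) = 0 :=
      fun g hg => Ug_coeff hg hx (by omega) (by omega)
    refine ⟨_, ha, _, hb, ?_, ?_, ?_⟩
    · intro h2
      have h3 := hz _ h2
      rw [lead_transv hF W hi] at h3
      exact one_ne_zero h3
    · intro h2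
      have h3 := hz _ h2
      rw [lead_transv hF W hi] at h3
      exact h0 h3
    · intro h2
      have h3 := hz _ h2
      rw [lead_mul (inv_mem haU) hbU hx (by omega) (by omega), lead_inv haU hx (by omega) (by omega),
        lead_transv hF W hi, lead_transv hF W hi] at h3
      exact h1' (by linear_combination h3)

theorem star0 [CharP F 2] (hF : Fintype.card F = q ^ 2) (hn : 3 ≤ n) (W : Wb q v) {c₀ : F} (hc₀ : c₀ ^ q ≠ c₀) {j : ℕ}
    {l : Subgroup (SU n F q)} (hl : l ∈ L0 hF W c₀ j) {M : GU n F q} {ρ : F ≃+* F} (hU : Uni q v M ρ)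
    (hρ : ∀ x : F, x ^ q = x → ρ x = x) (h2 : toAut M ρ * toAut M ρ = 1) {x : SU n F q} (hx : x ∈ l)
    (hxV : x ∉ V0 hF W (j + 1)) (h : toAut M ρ (pr n F q x) = pr n F q x) {x' : SU n F q} (hx' : x' ∈ l) :
    toAut M ρ (pr n F q x') = pr n F q x' := by
  have hc0 : c₀ ≠ 0 := by
    rintro rfl
    exact hc₀ (zero_pow_q hF)
  rcases hl with ⟨h0, i, k, hik, h1, rfl⟩ | ⟨h0, i, k, hik, h1, rfl⟩ | ⟨h0, i, hi, h1, rfl⟩
  · rw [V0_even_succ h0] at hxV
    obtain ⟨t, μ, hs, ht, hμ, rfl⟩ := hx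
    refine star_Ln hF hn W hU hρ h2 hc0 hs ht ?_ hμ h hx'
    rintro rfl
    apply hxV
    apply Ug_le_Rg
    exact (siegel_mem_Ug hF W hik h1 hs hμ).2 (zero_mul _)
  · rw [V0_odd_succ h0] at hxV
    obtain ⟨t, μ, hs, ht, hμ, rfl⟩ := hx
    refine star_Ln hF hn W hU hρ h2 one_ne_zero hs ht ?_ hμ h hx'
    rintro rfl
    apply hxV
    exact (siegel_mem_Ug hF W hik h1 hs hμ).2 (zero_mul _)
  · rw [V0_odd_succ h0] at hxV
    obtain ⟨μ, hμ, rfl⟩ := hx
    obtain ⟨μ', hμ', rfl⟩ := hx'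
    have hq : ∀ ν : F, ν + ν ^ q = 0 → ν ^ q = ν := fun ν hν => by
      have h3 := CharTwo.add_self_eq_zero ν
      linear_combination hν - h3
    refine star_transv hF hn hρ (W.iso hi) hμ hμ' (hq μ hμ) (hq μ' hμ') ?_ h
    rintro rfl
    apply hxV
    rw [transv_zero]
    exact one_mem _

theorem fix0 [CharP F 2] (hF : Fintype.card F = q ^ 2) (W : Wb q v) {M : GU n F q} {ρ : F ≃+* F} (hU : Uni q v M ρ)
    (hρ : ∀ x : F, x ^ q = x → ρ x = x) {j : ℕ} {x : SU n F q} (hx : x ∈ V0 hF W j) :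
    semiConj M ρ x * x⁻¹ ∈ V0 hF W (j + 1) := by
  rcases Nat.mod_two_eq_zero_or_one j with h | h
  · rw [V0_even h] at hx
    rw [V0_even_succ h]
    exact fix_U hF W hU hρ hx
  · rw [V0_odd h] at hx
    rw [V0_odd_succ h]
    exact fix_R hF W hU hρ hx

/-- **(k3) for `PSU n F q`** -/
theorem filt [CharP F 2] (hF : Fintype.card F = q ^ 2) (hn : 3 ≤ n) (hq : 3 ≤ q) (T : Sylow 2 (PSU n F q))
    (A : Subgroup (MulAut (PSU n F q))) (hA : GoodA T A) : ∃ U L, FltA T A U L := by
  obtain ⟨v, W, hT, hv⟩ := exists_flag hF hn (by omega) T hA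
  obtain ⟨c₀, hc₀⟩ := exists_c (F := F) hF
  have hmem : ∀ (j : ℕ) (g : SU n F q), g ∈ Ug q v 1 → (pr n F q g ∈ (V0 hF W j).map (pr n F q) ↔ g ∈ V0 hF W j) :=
    fun j g hg => pr_mem_iff hF hn W (V0_le hF W j) hg
  have hlU : ∀ j, ∀ l ∈ L0 hF W c₀ j, ∀ x ∈ l, x ∈ Ug q v 1 := fun j l hl x hx =>
    V0_le hF W j (L0_le hF W c₀ hl hx)
  refine ⟨fun j => (V0 hF W j).map (pr n F q), fun j => {l | ∃ l₀ ∈ L0 hF W c₀ j, l = l₀.map (pr n F q)}, ?_, ?_, ?_,
    ?_, ?_, ?_, ?_, ?_, ?_⟩
  · exact hT.symm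
  · refine ⟨2 * n, ?_⟩
    rw [V0_even (by omega), eq_bot_iff]
    rintro _ ⟨g, hg, rfl⟩
    rw [Ug_top hF W (Ug_anti (by omega) hg), map_one]
    exact Subgroup.mem_bot.2 rfl
  · exact fun j => Subgroup.map_mono (V0_anti hF W j)
  · rintro j _ ⟨u, hu, rfl⟩
    have h1 := gen0 hF W hc₀ hu
    have h2 : pr n F q u ∈ (Subgroup.closure ({x | ∃ l ∈ L0 hF W c₀ j, x ∈ l} ∪
        (V0 hF W (j + 1) : Set (SU n F q)))).map (pr n F q) := ⟨u, h1, rfl⟩
    rw [MonoidHom.map_closure] at h2
    refine Subgroup.closure_mono ?_ h2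
    rintro _ ⟨x, (⟨l, hl, hx⟩ | hx), rfl⟩
    · exact Or.inl ⟨l.map (pr n F q), ⟨l, hl, rfl⟩, ⟨x, hx, rfl⟩⟩
    · exact Or.inr ⟨x, hx, rfl⟩
  · rintro j _ ⟨l, hl, rfl⟩
    exact Subgroup.map_mono (L0_le hF W c₀ hl)
  · rintro j _ ⟨l, hl, rfl⟩ _ ⟨x, hx, rfl⟩
    exact ⟨x * x, sq0 hF W hl hx, map_mul _ _ _⟩
  · rintro j _ ⟨l, hl, rfl⟩
    obtain ⟨a, ha, b, hb, h1, h2, h3⟩ := pair0 hF hq W hc₀ hl
    refine ⟨_, ⟨a, ha, rfl⟩, _, ⟨b, hb, rfl⟩, ?_, ?_, ?_⟩
    · exact fun h => h1 ((hmem _ _ (hlU j l hl a ha)).1 h)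
    · exact fun h => h2 ((hmem _ _ (hlU j l hl b hb)).1 h)
    · intro h
      rw [← map_inv, ← map_mul] at h
      exact h3 ((hmem _ _ (mul_mem (inv_mem (hlU j l hl a ha)) (hlU j l hl b hb))).1 h)
  · rintro j _ ⟨l, hl, rfl⟩ y hyA hyT hy2 _ ⟨x, hx, rfl⟩ hxU hyx _ ⟨x', hx', rfl⟩
    obtain ⟨M, ρ, rfl, hU⟩ := hv y hyA
    have hρ := rho_of_fixZ hF W hn hT hU hyT
    exact star0 hF hn W hc₀ hl hU hρ hy2 hx (fun h => hxU ((hmem _ _ (hlU j l hl x hx)).2 h)) hyx hx'
  · rintro j _ ⟨l, hl, rfl⟩ _ ⟨x, hx, rfl⟩ e heA heT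
    obtain ⟨M, ρ, rfl, hU⟩ := hv e heA
    have hρ := rho_of_fixZ hF W hn hT hU heT
    refine ⟨_, fix0 hF W hU hρ (L0_le hF W c₀ hl hx), ?_⟩
    rw [map_mul, map_inv, Cfsg.Agent.ClassicalGeometry.PSUAutMain.toAut_pr']

end Cfsg.Agent.OddHalf.D4.UnB

end
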